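import Mathlib

/-!
Affine binary groups: displacement cosets and maximal elements.
-/

set_option autoImplicit false
set_option linter.unusedSectionVars false

namespace Cfsg.Agent.H52.Binary

variable {H V : Type*} [Group H] [AddCommGroup V] [DistribMulAction H V]

/-- Displacement `v ↦ h • v - v`. -/
def dis (h : H) : V →+ V :=
  AddMonoidHom.mk' (fun v => h • v - v) (fun a b => by simp only [smul_add]; abel)

theorem dis_apply (h : H) (v : V) : dis h v = h • v - v := rfl

/-- The fixed points of `h`. -/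
def fix (h : H) : AddSubgroup V := (dis (V := V) h).ker

/-- The displacements of `h`. -/
def dsp (h : H) : AddSubgroup V := (dis (V := V) h).range

theorem mem_fix {h : H} {v : V} : v ∈ (fix h : AddSubgroup V) ↔ h • v = v := by
  simp [fix, AddMonoidHom.mem_ker, dis_apply, sub_eq_zero]

theorem mem_dsp {h : H} {d : V} : d ∈ (dsp h : AddSubgroup V) ↔ ∃ x : V, h • x = x + d := by
  simp only [dsp, AddMonoidHom.mem_range, dis_apply]
  exact ⟨fun ⟨x, hx⟩ => ⟨x, by rw [← hx]; abel⟩, fun ⟨x, hx⟩ => ⟨x, by rw [hx]; abel⟩⟩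

theorem dis_mem (h : H) (v : V) : dis h v ∈ (dsp h : AddSubgroup V) := ⟨v, rfl⟩

theorem card_fix_mul_dsp (h : H) :
    Nat.card (fix h : AddSubgroup V) * Nat.card (dsp h : AddSubgroup V) = Nat.card V := by
  rw [AddSubgroup.card_eq_card_quotient_mul_card_addSubgroup (fix h : AddSubgroup V), mul_comm]
  congr 1
  exact (Nat.card_congr (QuotientAddGroup.quotientKerEquivRange (dis (V := V) h)).toEquiv).symm

variable (H V) in
/-- Hypotheses on the point stabiliser of an affine binary primitive group. -/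
structure Affine (p : ℕ) : Prop where
  pp : p.Prime
  exp : ∀ v : V, p • v = 0
  faith : ∀ h : H, (∀ v : V, h • v = v) → h = 1
  binary : ∀ (S : Set V) (f : V → V), (∀ x ∈ S, ∃ h : H, h • x = f x) →
    (∀ x ∈ S, ∀ y ∈ S, ∃ h : H, h • (x - y) = f x - f y) → ∃ h : H, ∀ x ∈ S, h • x = f x
  irr : ∀ T : AddSubgroup V, (∀ h : H, ∀ t ∈ T, h • t ∈ T) → T = ⊥ ∨ T = ⊤

/-- The points moved by `d` under some element. -/
def pts (H : Type*) {V : Type*} [Group H] [AddCommGroup V] [DistribMulAction H V] (d : V) : Set V :=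
  {x : V | ∃ h : H, h • x = x + d}

/-- A nontrivial element with maximal fixed point space. -/
def IsM (V : Type*) [AddCommGroup V] [DistribMulAction H V] (h : H) : Prop :=
  h ≠ 1 ∧ ∀ k : H, k ≠ 1 → (fix h : AddSubgroup V) ≤ fix k → (fix k : AddSubgroup V) = fix h

theorem exists_isM_above [Finite V] {k : H} (hk : k ≠ 1) :
    ∃ h : H, IsM V h ∧ (fix k : AddSubgroup V) ≤ fix h := by
  have hne : ({T : AddSubgroup V | ∃ h : H, h ≠ 1 ∧ fix h = T ∧ fix k ≤ T}).Nonempty :=
    ⟨fix k, k, hk, rfl, le_rfl⟩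
  obtain ⟨T, hT⟩ := (Set.toFinite _).exists_maximal hne
  obtain ⟨h, hh, rfl, hle⟩ := hT.prop
  exact ⟨h, ⟨hh, fun l hl hhl => le_antisymm (hT.le_of_ge ⟨l, hl, rfl, hle.trans hhl⟩ hhl) hhl⟩, hle⟩

theorem smul_mem_dsp_conj {k h : H} {u : V} (hu : u ∈ (dsp h : AddSubgroup V)) :
    k • u ∈ (dsp (k * h * k⁻¹) : AddSubgroup V) := by
  obtain ⟨x, hx⟩ := mem_dsp.mp hu
  refine mem_dsp.mpr ⟨k • x, ?_⟩
  rw [mul_smul, mul_smul, inv_smul_smul, hx, smul_add]

theorem mem_fix_conj {k h : H} {u : V} :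
    u ∈ (fix (k * h * k⁻¹) : AddSubgroup V) ↔ k⁻¹ • u ∈ (fix h : AddSubgroup V) := by
  rw [mem_fix, mem_fix, mul_smul, mul_smul, smul_eq_iff_eq_inv_smul]

theorem IsM.conj {h : H} (hM : IsM V h) (k : H) : IsM V (k * h * k⁻¹) := by
  refine ⟨fun e => hM.1 ?_, fun l hl hle => ?_⟩
  · have := congrArg (fun z => k⁻¹ * z * k) e
    simpa [mul_assoc] using this
  · have hl' : k⁻¹ * l * k ≠ 1 := fun e => hl (by
      have := congrArg (fun z => k * z * k⁻¹) e
      simpa [mul_assoc] using this)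
    have key : ∀ v : V, v ∈ (fix l : AddSubgroup V) ↔
        k⁻¹ • v ∈ (fix (k⁻¹ * l * k) : AddSubgroup V) := by
      intro v
      rw [mem_fix, mem_fix, mul_smul, mul_smul, smul_inv_smul, smul_left_cancel_iff]
    have hle' : (fix h : AddSubgroup V) ≤ fix (k⁻¹ * l * k) := by
      intro v hv
      have : k • v ∈ (fix l : AddSubgroup V) := hle (mem_fix_conj.mpr (by rwa [inv_smul_smul]))
      simpa [inv_smul_smul] using (key _).mp this
    ext v
    rw [key, hM.2 _ hl' hle', mem_fix_conj]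

namespace Affine

variable {p : ℕ} (hA : Affine H V p)

include hA

theorem eq_one_of_fix {h : H} (hh : (fix h : AddSubgroup V) = ⊤) : h = 1 :=
  hA.faith h fun v => mem_fix.mp (hh ▸ AddSubgroup.mem_top v)

/-- One element realises the translation by `d` on all of `pts d`. -/
theorem exists_gd (d : V) : ∃ g : H, ∀ x ∈ pts H d, g • x = x + d :=
  hA.binary (pts H d) (fun x => x + d) (fun _ hx => hx)
    (fun x _ y _ => ⟨1, by rw [one_smul]; abel⟩)

/-- The translating element for `d`. -/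
noncomputable def gd (d : V) : H := Classical.choose (hA.exists_gd d)

theorem gd_spec {d x : V} (hx : x ∈ pts H d) : hA.gd d • x = x + d :=
  Classical.choose_spec (hA.exists_gd d) x hx

theorem fix_le_gd {d x : V} {h : H} (hx : h • x = x + d) :
    (fix h : AddSubgroup V) ≤ fix (hA.gd d) := by
  intro z hz
  rw [mem_fix] at hz ⊢
  have h1 : x + z ∈ pts H d := ⟨h, by rw [smul_add, hx, hz]; abel⟩
  have := hA.gd_spec h1
  rw [smul_add, hA.gd_spec ⟨h, hx⟩] at this
  exact add_left_cancel (a := x + d) (by rw [this]; abel)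

theorem sub_mem_fix_gd {d x y : V} (hx : x ∈ pts H d) (hy : y ∈ pts H d) :
    x - y ∈ (fix (hA.gd d) : AddSubgroup V) := by
  rw [mem_fix, smul_sub, hA.gd_spec hx, hA.gd_spec hy]; abel

theorem gd_neg {d x : V} (hx : x ∈ pts H d) : hA.gd d • d = -d := by
  obtain ⟨h, hh⟩ := hx
  have h2 : -x - d ∈ pts H d := ⟨h⁻¹, by
    have : h⁻¹ • (x + d) = x := by rw [← hh, inv_smul_smul]
    rw [show -x - d = -(x + d) by abel, smul_neg, this]; abel⟩
  have h3 := hA.gd_spec h2
  rw [smul_sub, smul_neg, hA.gd_spec ⟨h, hh⟩] at h3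
  have : hA.gd d • d = -(x + d) - (-x - d + d) := by rw [← h3]; abel
  rw [this]; abel

theorem gd_ne_one {d x : V} (hd : d ≠ 0) (hx : x ∈ pts H d) : hA.gd d ≠ 1 := by
  intro e
  have := hA.gd_spec hx
  rw [e, one_smul] at this
  exact hd (by simpa using this.symm)

theorem isM_eq_gd {h : H} (hM : IsM V h) {d x : V} (hd : d ≠ 0) (hx : h • x = x + d) :
    h = hA.gd d := by
  have hxp : x ∈ pts H d := ⟨h, hx⟩
  have e := hM.2 _ (hA.gd_ne_one hd hxp) (hA.fix_le_gd hx)
  by_contra hne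
  have hk : (hA.gd d)⁻¹ * h ≠ 1 := fun c => hne (inv_mul_eq_one.mp c).symm
  have hle : (fix h : AddSubgroup V) ≤ fix ((hA.gd d)⁻¹ * h) := fun z hz => by
    rw [mem_fix, mul_smul, mem_fix.mp hz, inv_smul_eq_iff]
    exact (mem_fix.mp (e ▸ hz)).symm
  have hxm : x ∈ (fix ((hA.gd d)⁻¹ * h) : AddSubgroup V) := by
    rw [mem_fix, mul_smul, hx, inv_smul_eq_iff, hA.gd_spec hxp]
  rw [hM.2 _ hk hle, mem_fix, hx] at hxm
  exact hd (by simpa using hxm)

theorem smul_dsp {h : H} (hM : IsM V h) {d : V} (hd : d ∈ (dsp h : AddSubgroup V)) :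
    h • d = -d := by
  by_cases h0 : d = 0
  · simp [h0]
  obtain ⟨x, hx⟩ := mem_dsp.mp hd
  conv_lhs => rw [hA.isM_eq_gd hM h0 hx]
  exact hA.gd_neg ⟨h, hx⟩

theorem mul_self {h : H} (hM : IsM V h) : h * h = 1 := by
  refine hA.faith _ fun v => ?_
  have h1 := hA.smul_dsp hM (dis_mem h v)
  rw [dis_apply, smul_sub] at h1
  rw [mul_smul]
  have : h • h • v = -(h • v - v) + h • v := by rw [← h1]; abel
  rw [this]; abel

theorem inv_eq {h : H} (hM : IsM V h) : h⁻¹ = h := inv_eq_of_mul_eq_one_right (hA.mul_self hM)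

theorem eq_of_common {h h' : H} (hM : IsM V h) (hM' : IsM V h') {d : V} (hd : d ≠ 0)
    (h1 : d ∈ (dsp h : AddSubgroup V)) (h2 : d ∈ (dsp h' : AddSubgroup V)) : h = h' := by
  obtain ⟨x, hx⟩ := mem_dsp.mp h1
  obtain ⟨y, hy⟩ := mem_dsp.mp h2
  rw [hA.isM_eq_gd hM hd hx, hA.isM_eq_gd hM' hd hy]

theorem dsp_inf {h h' : H} (hM : IsM V h) (hM' : IsM V h') (hne : h ≠ h') :
    (dsp h : AddSubgroup V) ⊓ dsp h' = ⊥ := by
  rw [AddSubgroup.eq_bot_iff_forall]
  intro d hd
  by_contra h0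
  exact hne (hA.eq_of_common hM hM' h0 hd.1 hd.2)

theorem dsp_ne_bot {h : H} (hM : IsM V h) : ∃ d ∈ (dsp h : AddSubgroup V), d ≠ 0 := by
  by_contra hc
  push Not at hc
  refine hM.1 (hA.faith h fun v => ?_)
  simpa [dis_apply, sub_eq_zero] using hc _ (dis_mem h v)

theorem commute_conj {h k : H} (hM : IsM V h) {u : V} (hu : u ≠ 0)
    (h1 : u ∈ (dsp h : AddSubgroup V)) (h2 : k • u ∈ (dsp h : AddSubgroup V)) :
    k * h * k⁻¹ = h :=
  hA.eq_of_common (hM.conj k) hM (fun e => hu ((smul_eq_zero_iff_eq k).mp e))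
    (smul_mem_dsp_conj h1) h2

theorem smul_mem_dsp_of_commute {h k : H} (hc : k * h = h * k) {u : V}
    (hu : u ∈ (dsp h : AddSubgroup V)) : k • u ∈ (dsp h : AddSubgroup V) := by
  have := smul_mem_dsp_conj (k := k) hu
  rwa [hc, mul_inv_cancel_right] at this

/-- An element commuting with `h` acts as `1` or as `-1` on the displacements of `h`. -/
theorem pm_on_dsp {h k : H} (hM : IsM V h) (hc : k * h = h * k) :
    (∀ w ∈ (dsp h : AddSubgroup V), k • w = w) ∨
      (∀ w ∈ (dsp h : AddSubgroup V), k • w = -w) := by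
  have key : ∀ w ∈ (dsp h : AddSubgroup V), k • w = w ∨ k • w = -w := by
    intro w hw
    by_cases e0 : k • w - w = 0
    · exact Or.inl (sub_eq_zero.mp e0)
    right
    have he : k • w - w ∈ (dsp h : AddSubgroup V) :=
      (dsp h).sub_mem (hA.smul_mem_dsp_of_commute hc hw) hw
    obtain ⟨x, hx⟩ := mem_dsp.mp he
    have hg := hA.isM_eq_gd hM e0 hx
    have := hA.gd_spec (x := w) (d := k • w - w) ⟨k, by abel⟩
    rw [← hg, hA.smul_dsp hM hw] at this
    rw [this]; abel
  by_contra hcon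
  push Not at hcon
  obtain ⟨⟨w1, hw1, n1⟩, ⟨w2, hw2, n2⟩⟩ := hcon
  have e1 := (key w1 hw1).resolve_left n1
  have e2 := (key w2 hw2).resolve_right n2
  rcases key (w1 + w2) ((dsp h).add_mem hw1 hw2) with h3 | h3 <;> rw [smul_add, e1, e2] at h3
  · exact n1 (by rw [e1]; exact add_right_cancel h3)
  · exact n2 (by rw [e2]; rw [neg_add] at h3; exact add_left_cancel h3)

/-- A displacement of `h'` fixed by `h` forces orthogonality. -/
theorem orth_of_fixed {h h' : H} (hM : IsM V h) (hM' : IsM V h') {u : V} (hu : u ≠ 0)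
    (h1 : u ∈ (dsp h' : AddSubgroup V)) (h2 : h • u = u) :
    h * h' = h' * h ∧ (dsp h' : AddSubgroup V) ≤ fix h := by
  have hc : h * h' = h' * h := by
    have := hA.commute_conj (k := h) hM' hu h1 (by rwa [h2])
    calc h * h' = h * h' * h⁻¹ * h := by group
      _ = h' * h := by rw [this]
  refine ⟨hc, fun w hw => mem_fix.mpr ?_⟩
  rcases hA.pm_on_dsp hM' hc with hp | hp
  · exact hp w hw
  · -- then `u = -u`, so the characteristic is two
    have hu2 : u + u = 0 := by
      have := hp u h1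
      rw [h2] at this
      nth_rw 1 [this]
      exact neg_add_cancel u
    have h22 : (2 : ℕ) • u = 0 := by rw [two_nsmul]; exact hu2
    have hp2 : p = 2 := by
      by_contra hp2
      have hcop : Nat.Coprime 2 p := (Nat.coprime_primes Nat.prime_two hA.pp).mpr (Ne.symm hp2)
      have hd2 : addOrderOf u ∣ 2 := addOrderOf_dvd_of_nsmul_eq_zero h22
      have hdp : addOrderOf u ∣ p := addOrderOf_dvd_of_nsmul_eq_zero (hA.exp u)
      exact hu (AddMonoid.addOrderOf_eq_one_iff.mp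
        (Nat.eq_one_of_dvd_one (hcop.gcd_eq_one ▸ Nat.dvd_gcd hd2 hdp)))
    rw [hp w hw, neg_eq_iff_add_eq_zero]
    have := hA.exp w
    rwa [hp2, two_nsmul] at this

end Affine

end Cfsg.Agent.H52.Binary
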