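import Cfsg.Agent.H52.Binary.Plane

/-!
Generic lemmas on pairs of maximal elements and on planes with the maximal number of members.
-/

set_option autoImplicit false
set_option linter.unusedSectionVars false

namespace Cfsg.Agent.H52.Binary

variable {H V : Type*} [Group H] [AddCommGroup V] [DistribMulAction H V] [Finite H] [Finite V]

theorem card_eq_mul_of {A B W : AddSubgroup V} (hA : A ≤ W) (hB : B ≤ W)
    (hinf : ∀ v ∈ A, v ∈ B → v = 0) (hsup : ∀ w ∈ W, ∃ a ∈ A, ∃ b ∈ B, a + b = w) :
    Nat.card W = Nat.card A * Nat.card B := by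
  refine le_antisymm ?_ (card_mul_le_of_inf hA hB hinf)
  rw [← Nat.card_prod]
  refine Nat.card_le_card_of_surjective
    (fun x : A × B => (⟨(x.1 : V) + x.2, W.add_mem (hA x.1.2) (hB x.2.2)⟩ : W)) ?_
  rintro ⟨w, hw⟩
  obtain ⟨a, ha, b, hb, e⟩ := hsup w hw
  exact ⟨(⟨a, ha⟩, ⟨b, hb⟩), Subtype.ext e⟩

theorem card_dsp_conj (h k : H) :
    Nat.card (dsp (k * h * k⁻¹) : AddSubgroup V) = Nat.card (dsp h : AddSubgroup V) := by
  refine (Nat.card_eq_of_bijective
    (fun u : (dsp h : AddSubgroup V) => (⟨k • (u : V), smul_mem_dsp_conj u.2⟩ :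
      (dsp (k * h * k⁻¹) : AddSubgroup V))) ⟨?_, ?_⟩).symm
  · intro a b e
    exact Subtype.ext (MulAction.injective k (congrArg Subtype.val e))
  · rintro ⟨v, hv⟩
    have := smul_mem_dsp_conj (k := k⁻¹) hv
    rw [show k⁻¹ * (k * h * k⁻¹) * k⁻¹⁻¹ = h by group] at this
    exact ⟨⟨k⁻¹ • v, this⟩, Subtype.ext (smul_inv_smul k v)⟩

namespace Affine

variable {p : ℕ} (hA : Affine H V p)

include hA

theorem card_dsp_le_of_not_commute {h m : H} (hh : IsM V h) (hm : IsM V m)
    (hc : h * m ≠ m * h) :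
    Nat.card (dsp h : AddSubgroup V) ≤ Nat.card (dsp m : AddSubgroup V) := by
  refine Nat.card_le_card_of_injective
    (fun u : (dsp h : AddSubgroup V) => (⟨dis m (u : V), dis_mem m _⟩ :
      (dsp m : AddSubgroup V))) ?_
  intro a b e
  by_contra hab
  have h0 : dis m ((a : V) - b) = 0 := by
    rw [map_sub, sub_eq_zero]; exact congrArg Subtype.val e
  rw [dis_apply, sub_eq_zero] at h0
  exact hc (hA.orth_of_fixed hm hh (fun c => hab (Subtype.ext (sub_eq_zero.mp c)))
    ((dsp h).sub_mem a.2 b.2) h0).1.symm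

theorem card_dsp_of_not_commute {h m : H} (hh : IsM V h) (hm : IsM V m)
    (hc : h * m ≠ m * h) :
    Nat.card (dsp h : AddSubgroup V) = Nat.card (dsp m : AddSubgroup V) :=
  le_antisymm (hA.card_dsp_le_of_not_commute hh hm hc)
    (hA.card_dsp_le_of_not_commute hm hh (Ne.symm hc))

/-- Some conjugate of a maximal element with nonzero fixed points differs from it. -/
theorem exists_conj_ne {h : H} (hh : IsM V h) (hf : (fix h : AddSubgroup V) ≠ ⊥) :
    ∃ k : H, k * h * k⁻¹ ≠ h := by
  by_contra hc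
  push Not at hc
  have hinv : ∀ k : H, ∀ t ∈ (dsp h : AddSubgroup V), k • t ∈ (dsp h : AddSubgroup V) := by
    intro k t ht
    have := smul_mem_dsp_conj (k := k) ht
    rwa [hc k] at this
  rcases hA.irr _ hinv with e | e
  · obtain ⟨d, hd, hd0⟩ := hA.dsp_ne_bot hh
    exact hd0 (by simpa [e] using hd)
  · have h1 := card_fix_mul_dsp (V := V) h
    rw [e, AddSubgroup.card_top] at h1
    have h2 : Nat.card (fix h : AddSubgroup V) = 1 := by
      have : Nonempty V := ⟨0⟩
      exact (Nat.mul_eq_right Nat.card_pos.ne').mp h1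
    exact hf (AddSubgroup.card_eq_one.mp h2)

end Affine

variable (H) in
/-- A plane with the maximal number of members. -/
structure Rich (W Z : AddSubgroup V) (q : ℕ) : Prop extends Plane H W Z q where
  num : Nat.card {m : H // Mem Z m} = q + 1
  coverD : ∀ w ∈ W, w ≠ 0 → ∃ m : H, Mem Z m ∧ w ∈ (dsp m : AddSubgroup V)
  coverK : ∀ w ∈ W, w ≠ 0 → ∃ m : H, Mem Z m ∧ m • w = w

namespace Plane

variable {W Z : AddSubgroup V} {q p : ℕ}

theorem rich (hP : Plane H W Z q) (hA : Affine H V p)
    (hN : Nat.card {m : H // Mem Z m} = q + 1) : Rich H W Z q := by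
  classical
  cases nonempty_fintype H
  cases nonempty_fintype V
  have hN' : (Finset.univ.filter fun k : H => Mem Z k).card = q + 1 := by
    rw [← hN, Nat.card_eq_fintype_card, Fintype.card_subtype]
  exact ⟨hP, hN, fun w hw h0 => (hP.cover hA hN' hw h0).1, fun w hw h0 => (hP.cover hA hN' hw h0).2⟩

theorem count' (hP : Plane H W Z q) (hA : Affine H V p) {h h' : H} (hh : Mem Z h)
    (hh' : Mem Z h') (hne : h ≠ h') :
    (∀ m : H, Mem Z m → m = h ∨ m = h') ∨ Rich H W Z q := by
  classical
  cases nonempty_fintype H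
  cases nonempty_fintype V
  rcases hP.count hA hh hh' hne with e | e
  · left
    intro m hm
    have : ({h, h'} : Finset H) = Finset.univ.filter fun k : H => Mem Z k := by
      refine Finset.eq_of_subset_of_card_le ?_ (by rw [e, Finset.card_pair hne])
      intro k hk
      simp only [Finset.mem_insert, Finset.mem_singleton] at hk
      rcases hk with rfl | rfl <;> simpa
    have hmf : m ∈ Finset.univ.filter fun k : H => Mem Z k := by simpa
    rw [← this] at hmf
    simpa using hmf
  · right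
    exact hP.rich hA (by rw [Nat.card_eq_fintype_card, Fintype.card_subtype, e])

/-- A vector fixed by two members lies in the complement. -/
theorem mem_Z_of_fixed (hP : Plane H W Z q) {m m' : H} (hm : Mem Z m) (hm' : Mem Z m')
    (hne : m ≠ m') {v : V} (h1 : m • v = v) (h2 : m' • v = v) : v ∈ Z := by
  obtain ⟨w, hw, z, hz, rfl⟩ := hP.sup v
  rw [smul_add, hm.2 z hz, add_left_inj] at h1
  rw [smul_add, hm'.2 z hz, add_left_inj] at h2
  rw [hP.disj m m' hm hm' hne w hw h1 h2, zero_add]
  exact hz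

theorem exists_add_dsp (hP : Plane H W Z q) (hA : Affine H V p) {m m' : H} (hm : Mem Z m)
    (hm' : Mem Z m') (hne : m ≠ m') {w : V} (hw : w ∈ W) :
    ∃ a ∈ (dsp m : AddSubgroup V), ∃ b ∈ (dsp m' : AddSubgroup V), a + b = w := by
  refine exists_add_of_card (hP.stable m hm.2) (hP.stable m' hm'.2) ?_
    (by rw [hP.cardD m hm, hP.cardD m' hm', hP.cardW]) hw
  intro v hv hv'
  by_contra h0
  exact hne (hA.eq_of_common hm.1 hm'.1 h0 hv hv')

end Plane

end Cfsg.Agent.H52.Binary
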