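import Cfsg.Agent.H52.Binary.Common

/-!
Characteristic two.
-/

set_option autoImplicit false
set_option linter.unusedSectionVars false

namespace Cfsg.Agent.H52.Binary

variable {H V : Type*} [Group H] [AddCommGroup V] [DistribMulAction H V] [Finite H] [Finite V]

namespace Affine

variable (hA : Affine H V 2)

include hA

theorem neg_eq (v : V) : -v = v := by
  rw [neg_eq_iff_add_eq_zero, ← two_nsmul]; exact hA.exp v

theorem dsp_le_fix {h : H} (hh : IsM V h) : (dsp h : AddSubgroup V) ≤ fix h :=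
  fun d hd => mem_fix.mpr (by rw [hA.smul_dsp hh hd, hA.neg_eq])

theorem fix_dsp_of_commute {h k : H} (hh : IsM V h) (hc : k * h = h * k) :
    (dsp h : AddSubgroup V) ≤ fix k := by
  rcases hA.pm_on_dsp hh hc with e | e
  · exact fun w hw => mem_fix.mpr (e w hw)
  · exact fun w hw => mem_fix.mpr (by rw [e w hw, hA.neg_eq])

theorem conj_noncommute_ne {h k : H} (hh : IsM V h) (hne : k * h * k⁻¹ ≠ h)
    (hc : h * (k * h * k⁻¹) = (k * h * k⁻¹) * h)
    (hK : (fix h : AddSubgroup V) ≠ fix (k * h * k⁻¹)) : False := by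
  set h1 := k * h * k⁻¹ with hh1def
  have hh1 : IsM V h1 := hh.conj k
  have hq : Nat.card (dsp h1 : AddSubgroup V) = Nat.card (dsp h : AddSubgroup V) :=
    card_dsp_conj h k
  let φ : V →+ V × V := (dis h).prod (dis h1)
  let ψ : V →+ V × V := (AddMonoidHom.id V).prod (DistribSMul.toAddMonoidHom V k)
  let P : AddSubgroup (V × V) := (dsp h : AddSubgroup V).prod (dsp h1)
  have hR : φ.range ≤ P := by
    rintro _ ⟨v, rfl⟩
    exact ⟨dis_mem h v, dis_mem h1 v⟩
  have hG : (dsp h : AddSubgroup V).map ψ ≤ P := by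
    rintro _ ⟨a, ha, rfl⟩
    exact ⟨ha, smul_mem_dsp_conj ha⟩
  obtain ⟨x, a, ha0, e1, e2⟩ : ∃ x a : V, a ≠ 0 ∧ dis h x = a ∧ dis h1 x = k • a := by
    by_contra hcon
    push Not at hcon
    have hinf : ∀ v ∈ φ.range, v ∈ (dsp h : AddSubgroup V).map ψ → v = 0 := by
      rintro v ⟨x, rfl⟩ ⟨a, ha, e⟩
      have e1 : a = dis h x := congrArg Prod.fst e
      have e2 : k • a = dis h1 x := congrArg Prod.snd e
      by_contra h0
      have ha0 : a ≠ 0 := fun c => h0 (by
        rw [← e, c, map_zero])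
      exact hcon x a ha0 e1.symm e2.symm
    have hle := card_mul_le_of_inf hR hG hinf
    have hψ : Function.Injective ψ := fun a b e => congrArg Prod.fst e
    rw [← Nat.card_congr (AddSubgroup.equivMapOfInjective (dsp h : AddSubgroup V) ψ hψ).toEquiv,
      Nat.card_congr (AddSubgroup.prodEquiv (dsp h : AddSubgroup V) (dsp h1)).toEquiv,
      Nat.card_prod, hq] at hle
    have hle' := Nat.le_of_mul_le_mul_right hle Nat.card_pos
    have h1' := AddSubgroup.card_eq_card_quotient_mul_card_addSubgroup φ.ker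
    rw [Nat.card_congr (QuotientAddGroup.quotientKerEquivRange φ).toEquiv] at h1'
    have hker : φ.ker ≤ fix h ⊓ fix h1 := fun v hv =>
      ⟨AddMonoidHom.mem_ker.mpr (congrArg Prod.fst (AddMonoidHom.mem_ker.mp hv)),
        AddMonoidHom.mem_ker.mpr (congrArg Prod.snd (AddMonoidHom.mem_ker.mp hv))⟩
    have h2 : Nat.card (fix h : AddSubgroup V) ≤ Nat.card ↥((fix h : AddSubgroup V) ⊓ fix h1) := by
      refine Nat.le_of_mul_le_mul_right (c := Nat.card (dsp h : AddSubgroup V)) ?_ Nat.card_pos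
      rw [card_fix_mul_dsp, h1', mul_comm]
      exact Nat.mul_le_mul (AddSubgroup.card_le_of_le hker) hle'
    have h3 := AddSubgroup.eq_of_le_of_card_ge inf_le_left h2
    refine hK (AddSubgroup.eq_of_le_of_card_ge (inf_eq_left.mp h3) ?_)
    have a1 := card_fix_mul_dsp (V := V) h
    have a2 := card_fix_mul_dsp (V := V) h1
    rw [hq, ← a1] at a2
    exact (Nat.eq_of_mul_eq_mul_right Nat.card_pos a2).le
  set e := k • a with he
  have hx : h • x = x + a := by rw [← e1, dis_apply]; abel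
  have hx1 : h1 • x = x + e := by rw [← e2, dis_apply]; abel
  have haD : a ∈ (dsp h : AddSubgroup V) := e1 ▸ dis_mem h x
  have heD : e ∈ (dsp h1 : AddSubgroup V) := smul_mem_dsp_conj haD
  have hae : a ≠ e := fun c =>
    hne (hA.eq_of_common hh1 hh ha0 (by rw [c]; exact heD) haD)
  classical
  let f : V → V := fun v => if v = x + a then x + e else if v = x + e then x + a else v
  have fx : f x = x := by
    have c1 : x ≠ x + a := fun c => ha0 (by simpa using c.symm)
    have c2 : x ≠ x + e := fun c => ha0 ((smul_eq_zero_iff_eq k).mp (by simpa using c.symm))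
    simp only [f, if_neg c1, if_neg c2]
  have fa : f (x + a) = x + e := by simp [f]
  have fe : f (x + e) = x + a := by
    have c : x + e ≠ x + a := fun c => hae (add_left_cancel c).symm
    simp only [f, if_neg c, if_true]
  have oa : (h1 * h) • (x + a) = x + e := by
    rw [mul_smul, ← hx, ← mul_smul h h, hA.mul_self hh, one_smul, hx1]
  have oe : (h * h1) • (x + e) = x + a := by
    rw [mul_smul, ← hx1, ← mul_smul h1 h1, hA.mul_self hh1, one_smul, hx]
  obtain ⟨g, hg⟩ := hA.binary {x, x + a, x + e} f (by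
      rintro v (rfl | rfl | rfl)
      · exact ⟨1, by rw [fx, one_smul]⟩
      · exact ⟨_, by rw [fa]; exact oa⟩
      · exact ⟨_, by rw [fe]; exact oe⟩)
    (by
      rintro v (rfl | rfl | rfl) w (rfl | rfl | rfl)
      · exact ⟨1, by rw [one_smul]; simp⟩
      · exact ⟨k, by rw [fx, fa, sub_add_cancel_left, sub_add_cancel_left, smul_neg]⟩
      · refine ⟨k⁻¹, ?_⟩
        rw [fx, fe, sub_add_cancel_left, sub_add_cancel_left, smul_neg, he, inv_smul_smul]
      · exact ⟨k, by rw [fx, fa, add_sub_cancel_left, add_sub_cancel_left]⟩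
      · exact ⟨1, by rw [one_smul]; simp⟩
      · refine ⟨1, ?_⟩
        rw [fa, fe, one_smul, add_sub_add_left_eq_sub, add_sub_add_left_eq_sub, ← neg_sub e a,
          hA.neg_eq]
      · refine ⟨k⁻¹, ?_⟩
        rw [fx, fe, add_sub_cancel_left, add_sub_cancel_left, he, inv_smul_smul]
      · refine ⟨1, ?_⟩
        rw [fa, fe, one_smul, add_sub_add_left_eq_sub, add_sub_add_left_eq_sub, ← neg_sub a e,
          hA.neg_eq]
      · exact ⟨1, by rw [one_smul]; simp⟩)
  have gx : g • x = x := by rw [hg x (by simp), fx]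
  have ga : g • a = e := by
    have := hg (x + a) (by simp)
    rw [smul_add, gx, fa] at this
    exact add_left_cancel this
  set d := a + e with hd
  have hap : g • a = a + d := by
    rw [ga, hd, ← add_assoc, ← two_nsmul, hA.exp, zero_add]
  have hfx : x ∈ (fix (hA.gd d) : AddSubgroup V) := hA.fix_le_gd hap (mem_fix.mpr gx)
  have hxp : (h1 * h) • x = x + d := by
    rw [mul_smul, hx, smul_add, hx1, mem_fix.mp (hA.fix_dsp_of_commute hh hc.symm haD), hd]
    abel
  have := hA.gd_spec (d := d) ⟨_, hxp⟩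
  rw [mem_fix.mp hfx] at this
  have hd0 : d = 0 := by simpa using this.symm
  exact hae (by rw [eq_neg_of_add_eq_zero_left hd0, hA.neg_eq])

theorem conj_noncommute_eq {h k : H} (hh : IsM V h) (hne : k * h * k⁻¹ ≠ h)
    (hc : h * (k * h * k⁻¹) = (k * h * k⁻¹) * h)
    (hK : (fix h : AddSubgroup V) = fix (k * h * k⁻¹)) : False := by
  set h1 := k * h * k⁻¹ with hh1def
  have hh1 : IsM V h1 := hh.conj k
  obtain ⟨a, ha, ha0⟩ := hA.dsp_ne_bot hh
  set e := k • a with he
  have heD : e ∈ (dsp h1 : AddSubgroup V) := smul_mem_dsp_conj ha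
  classical
  have he0 : e ≠ 0 := fun c => ha0 ((smul_eq_zero_iff_eq k).mp c)
  have hae : a ≠ e := fun c => hne (hA.eq_of_common hh1 hh ha0 (by rw [c]; exact heD) ha)
  obtain ⟨g, hg⟩ := hA.binary {a, e} (fun v => if v = a then e else a)
    (by
      rintro v (rfl | rfl)
      · exact ⟨k, by rw [if_pos rfl]⟩
      · exact ⟨k⁻¹, by rw [if_neg (Ne.symm hae), he, inv_smul_smul]⟩)
    (by
      intro v hv w hw
      simp only [Set.mem_insert_iff, Set.mem_singleton_iff] at hv hw
      rcases hv with hv | hv <;> rcases hw with hw | hw <;> rw [hv, hw]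
      · exact ⟨1, by rw [one_smul]; simp⟩
      · exact ⟨1, by rw [one_smul, if_pos rfl, if_neg (Ne.symm hae), ← neg_sub e a, hA.neg_eq]⟩
      · exact ⟨1, by rw [one_smul, if_pos rfl, if_neg (Ne.symm hae), ← neg_sub a e, hA.neg_eq]⟩
      · exact ⟨1, by rw [one_smul]; simp⟩)
  have ga : g • a = e := by rw [hg a (by simp), if_pos rfl]
  have ge : g • e = a := by rw [hg e (by simp), if_neg (Ne.symm hae)]
  have c1 : g * h * g⁻¹ = h1 :=
    hA.eq_of_common (hh.conj g) hh1 he0 (by rw [← ga]; exact smul_mem_dsp_conj ha) heD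
  have c2 : g * h1 * g⁻¹ = h :=
    hA.eq_of_common (hh1.conj g) hh ha0 (by rw [← ge]; exact smul_mem_dsp_conj heD) ha
  set h3 := h * h1 with hh3
  have h31 : h3 ≠ 1 := fun c => hne (by
    rw [hh3, mul_eq_one_iff_eq_inv, hA.inv_eq hh1] at c
    exact c.symm)
  have hf3 : (fix h : AddSubgroup V) ≤ fix h3 := fun v hv => by
    rw [mem_fix, hh3, mul_smul, mem_fix.mp (hK.le hv), mem_fix.mp hv]
  have e3 : (fix h3 : AddSubgroup V) = fix h := hh.2 h3 h31 hf3
  have hM3 : IsM V h3 := ⟨h31, fun l hl hle => by rw [hh.2 l hl (e3 ▸ hle), e3]⟩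
  have cg : g * h3 = h3 * g := by
    calc g * h3 = (g * h * g⁻¹) * (g * h1 * g⁻¹) * g := by rw [hh3]; group
      _ = h3 * g := by rw [c1, c2, hh3, ← hc]
  have key : ∀ y : V, g • dis h y = dis h1 y := by
    intro y
    have e1 : dis h3 (g • y) = dis h3 y := by
      rw [← mem_fix.mp (hA.fix_dsp_of_commute hM3 cg (dis_mem h3 y)), dis_apply, dis_apply,
        smul_sub, ← mul_smul, ← mul_smul, cg]
    have e2 : g • y - y ∈ (fix h1 : AddSubgroup V) := by
      rw [← hK, ← e3]
      exact AddMonoidHom.mem_ker.mpr (by rw [map_sub, sub_eq_zero]; exact e1)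
    have e4 : dis h1 (g • y) = dis h1 y := by
      have := AddMonoidHom.mem_ker.mp e2
      rwa [map_sub, sub_eq_zero] at this
    rw [← e4, dis_apply, dis_apply, smul_sub, ← mul_smul, ← mul_smul, ← c1, inv_mul_cancel_right]
  obtain ⟨x, hxK⟩ : ∃ x : V, x ∉ (fix h : AddSubgroup V) := by
    by_contra hcon
    push Not at hcon
    exact hh.1 (hA.eq_one_of_fix (eq_top_iff.mpr fun v _ => hcon v))
  set a' := dis h x with ha'
  set e' := dis h1 x with he'
  have ga' : g • a' = e' := key x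
  have ha'0 : a' ≠ 0 := fun c => hxK (AddMonoidHom.mem_ker.mpr c)
  have haK : a' ∈ (fix h : AddSubgroup V) := hA.dsp_le_fix hh (dis_mem h x)
  have heK : e' ∈ (fix h : AddSubgroup V) := by rw [hK]; exact hA.dsp_le_fix hh1 (dis_mem h1 x)
  have hae' : a' ≠ e' := fun c =>
    hne (hA.eq_of_common hh1 hh ha'0 (by rw [c]; exact dis_mem h1 x) (dis_mem h x))
  have he'0 : e' ≠ 0 := fun c => ha'0 ((smul_eq_zero_iff_eq g).mp (ga'.trans c))
  have hx : h • x = x + a' := by rw [ha', dis_apply]; abel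
  have hx1 : h1 • x = x + e' := by rw [he', dis_apply]; abel
  let f : V → V := fun v => if v = x + a' then x + e' else if v = x + e' then x + a' else v
  have nK : ∀ {t : V}, t ∈ (fix h : AddSubgroup V) → ∀ {v : V},
      v ∈ (fix h : AddSubgroup V) → v ≠ x + t := fun ht v hv c => hxK (by
    have := (fix h : AddSubgroup V).sub_mem hv ht
    rwa [c, add_sub_cancel_right] at this)
  have fK : ∀ {v : V}, v ∈ (fix h : AddSubgroup V) ∨ v = x → f v = v := by
    intro v hv
    have c1 : v ≠ x + a' := by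
      rcases hv with hv | rfl
      · exact nK haK hv
      · exact fun c => ha'0 (by simpa using c.symm)
    have c2 : v ≠ x + e' := by
      rcases hv with hv | rfl
      · exact nK heK hv
      · exact fun c => he'0 (by simpa using c.symm)
    simp only [f, if_neg c1, if_neg c2]
  have fa : f (x + a') = x + e' := by simp [f]
  have fe : f (x + e') = x + a' := by
    have c : x + e' ≠ x + a' := fun c => hae' (add_left_cancel c).symm
    simp only [f, if_neg c, if_true]
  have oa : (h1 * h) • (x + a') = x + e' := by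
    rw [mul_smul, ← hx, ← mul_smul h h, hA.mul_self hh, one_smul, hx1]
  have oe : (h * h1) • (x + e') = x + a' := by
    rw [mul_smul, ← hx1, ← mul_smul h1 h1, hA.mul_self hh1, one_smul, hx]
  let S : Set V := {v | v ∈ (fix h : AddSubgroup V) ∨ v = x ∨ v = x + a' ∨ v = x + e'}
  have pa : ∀ v, (v ∈ (fix h : AddSubgroup V) ∨ v = x) →
      ∃ l : H, l • (x + a' - v) = x + e' - v := by
    rintro v (hv | rfl)
    · exact ⟨h1 * h, by rw [smul_sub, oa, mul_smul h1 h v, mem_fix.mp hv, mem_fix.mp (hK.le hv)]⟩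
    · exact ⟨g, by rw [add_sub_cancel_left, add_sub_cancel_left, ga']⟩
  have pe : ∀ v, (v ∈ (fix h : AddSubgroup V) ∨ v = x) →
      ∃ l : H, l • (x + e' - v) = x + a' - v := by
    intro v hv
    obtain ⟨l, hl⟩ := pa v hv
    exact ⟨l⁻¹, by rw [← hl, inv_smul_smul]⟩
  have hsym : ∀ {u v u' v' : V}, (∃ l : H, l • (u - v) = u' - v') →
      ∃ l : H, l • (v - u) = v' - u' := by
    rintro u v u' v' ⟨l, hl⟩
    exact ⟨l, by rw [← neg_sub u v, smul_neg, hl, neg_sub]⟩
  obtain ⟨g', hg'⟩ := hA.binary S f (by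
      intro v hv
      rcases hv with hv | rfl | rfl | rfl
      · exact ⟨1, by rw [one_smul, fK (Or.inl hv)]⟩
      · exact ⟨1, by rw [one_smul, fK (Or.inr rfl)]⟩
      · exact ⟨_, by rw [fa]; exact oa⟩
      · exact ⟨_, by rw [fe]; exact oe⟩)
    (by
      intro v hv w hw
      have hv' : (v ∈ (fix h : AddSubgroup V) ∨ v = x) ∨ v = x + a' ∨ v = x + e' := by
        rcases hv with c | c | c | c <;> simp [c]
      have hw' : (w ∈ (fix h : AddSubgroup V) ∨ w = x) ∨ w = x + a' ∨ w = x + e' := by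
        rcases hw with c | c | c | c <;> simp [c]
      rcases hv' with hv | rfl | rfl <;> rcases hw' with hw | rfl | rfl
      · exact ⟨1, by rw [one_smul, fK hv, fK hw]⟩
      · rw [fK hv, fa]; exact hsym (pa v hv)
      · rw [fK hv, fe]; exact hsym (pe v hv)
      · rw [fK hw, fa]; exact pa w hw
      · exact ⟨1, by rw [one_smul, fa]; simp⟩
      · exact ⟨1, by rw [one_smul, fa, fe, add_sub_add_left_eq_sub, add_sub_add_left_eq_sub,
          ← neg_sub e' a', hA.neg_eq]⟩
      · rw [fK hw, fe]; exact pe w hw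
      · exact ⟨1, by rw [one_smul, fa, fe, add_sub_add_left_eq_sub, add_sub_add_left_eq_sub,
          ← neg_sub a' e', hA.neg_eq]⟩
      · exact ⟨1, by rw [one_smul, fe]; simp⟩)
  have g1 : g' • x = x := by rw [hg' x (Or.inr (Or.inl rfl)), fK (Or.inr rfl)]
  have g2 : g' • a' = a' := by rw [hg' a' (Or.inl haK), fK (Or.inl haK)]
  have g3 := hg' (x + a') (Or.inr (Or.inr (Or.inl rfl)))
  rw [smul_add, g1, g2, fa] at g3
  exact hae' (add_left_cancel g3)

theorem conj_noncommute {h k : H} (hh : IsM V h) (hne : k * h * k⁻¹ ≠ h) :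
    h * (k * h * k⁻¹) ≠ (k * h * k⁻¹) * h := fun hc => by
  by_cases hK : (fix h : AddSubgroup V) = fix (k * h * k⁻¹)
  · exact hA.conj_noncommute_eq hh hne hc hK
  · exact hA.conj_noncommute_ne hh hne hc hK

theorem conj_of_noncommute {h h' : H} (hh : IsM V h) (hh' : IsM V h') (hc : h * h' ≠ h' * h) :
    ∃ k : H, h' = k * h * k⁻¹ := by
  set r := h * h' with hr
  have h2 := hA.mul_self hh
  have h2' := hA.mul_self hh'
  have hrh : ∀ i : ℕ, h * r ^ i = r⁻¹ ^ i * h := by
    intro i
    have e : r⁻¹ = h * r * h⁻¹ := by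
      rw [hr, mul_inv_rev, hA.inv_eq hh', hA.inv_eq hh, ← mul_assoc h h h', h2, one_mul]
    rw [e, conj_pow, inv_mul_cancel_right]
  have hconj : ∀ i : ℕ, r ^ i * h * (r ^ i)⁻¹ = r ^ (2 * i) * h := by
    intro i
    rw [← inv_pow, mul_assoc]
    have : h * r⁻¹ ^ i = r ^ i * h := by
      calc h * r⁻¹ ^ i = h * (r⁻¹ ^ i * h) * h⁻¹ := by group
        _ = r ^ i * h⁻¹ := by rw [← hrh i, ← mul_assoc, h2, one_mul]
        _ = r ^ i * h := by rw [hA.inv_eq hh]
    rw [this, ← mul_assoc, ← pow_add, two_mul]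
  have hh'r : r * h' = h := by rw [hr, mul_assoc, h2', mul_one]
  have hh'2 : h' = r⁻¹ * h := by rw [← hh'r, inv_mul_cancel_left]
  rcases Nat.even_or_odd (orderOf r) with ⟨j, hj⟩ | ⟨j, hj⟩
  swap
  · refine ⟨r ^ j, ?_⟩
    rw [hconj, hh'2]
    congr 1
    rw [inv_eq_iff_mul_eq_one, ← pow_succ', ← hj, pow_orderOf_eq_one]
  exfalso
  have hpos : 0 < orderOf r := orderOf_pos r
  set s := r ^ j with hs
  have hs1 : s ≠ 1 := fun e => by
    have := Nat.le_of_dvd (by omega) (orderOf_dvd_of_pow_eq_one e); omega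
  have hss : s⁻¹ = s := inv_eq_of_mul_eq_one_right (by rw [hs, ← pow_add, ← hj, pow_orderOf_eq_one])
  have hsh : h * s = s * h := by rw [hs, hrh, inv_pow, ← hs, hss]
  set m := s * h with hm
  have hmne : m ≠ h := fun e => hs1 (mul_eq_right.mp e)
  have hmc : h * m = m * h := by rw [hm, ← mul_assoc, hsh]
  rcases Nat.even_or_odd j with ⟨i, hi⟩ | ⟨i, hi⟩
  · have e : r ^ i * h * (r ^ i)⁻¹ = m := by rw [hconj, hm, hs, hi, two_mul]
    exact hA.conj_noncommute hh (by rw [e]; exact hmne) (by rw [e]; exact hmc)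
  · have e : r ^ (i + 1) * h' * (r ^ (i + 1))⁻¹ = m := by
      have c : Commute (r ^ (i + 1)) r⁻¹ := ((Commute.refl r).inv_right).pow_left _
      rw [hh'2, ← mul_assoc, c.eq, mul_assoc, mul_assoc, ← mul_assoc (r ^ (i + 1)), hconj,
        ← mul_assoc, hm, hs, hi]
      congr 1
      rw [inv_mul_eq_iff_eq_mul, ← pow_succ']
      congr 1
    have hM : IsM V m := e ▸ hh'.conj _
    have hP : ∀ n : ℕ, ∀ v : V, (r ^ n) • v - v ∈ (dsp h ⊔ dsp h' : AddSubgroup V) := by
      intro n
      induction n with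
      | zero => intro v; simp
      | succ n ih =>
        intro v
        rw [pow_succ, mul_smul, hr, mul_smul, ← hr]
        have e : (r ^ n) • h • h' • v - v = ((r ^ n) • (h • h' • v) - h • h' • v) +
            ((h • (h' • v) - h' • v) + (h' • v - v)) := by abel
        rw [e]
        exact AddSubgroup.add_mem _ (ih _) (AddSubgroup.add_mem _
          (AddSubgroup.mem_sup_left (dis_mem h (h' • v))) (AddSubgroup.mem_sup_right (dis_mem h' v)))
    obtain ⟨d, hd, hd0⟩ := hA.dsp_ne_bot hM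
    obtain ⟨x, hx⟩ := mem_dsp.mp hd
    have hdW : d ∈ (dsp h ⊔ dsp h' : AddSubgroup V) := by
      have e : d = ((r ^ j) • (h • x) - h • x) + (h • x - x) := by
        rw [sub_add_sub_cancel, ← mul_smul, ← hs, ← hm, hx, add_sub_cancel_left]
      rw [e]
      exact AddSubgroup.add_mem _ (hP j _) (AddSubgroup.mem_sup_left (dis_mem h x))
    obtain ⟨a, ha, b, hb, rfl⟩ := AddSubgroup.mem_sup.mp hdW
    have hfix := mem_fix.mp (hA.fix_dsp_of_commute hM hmc hd)
    rw [smul_add, mem_fix.mp (hA.dsp_le_fix hh ha)] at hfix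
    have hb0 : b = 0 := by
      by_contra h0
      exact hc (hA.orth_of_fixed hh hh' h0 hb (add_left_cancel hfix)).1
    rw [hb0, add_zero] at hd hd0
    exact hmne (hA.eq_of_common hM hh hd0 hd ha)

/-- A pair of distinct conjugates spans a rich plane. -/
theorem rich_two {h k : H} (hh : IsM V h) (hne : k * h * k⁻¹ ≠ h) :
    Rich H (dsp h ⊔ dsp (k * h * k⁻¹) : AddSubgroup V) (fix h ⊓ fix (k * h * k⁻¹))
      (Nat.card (dsp h : AddSubgroup V)) := by
  classical
  cases nonempty_fintype H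
  cases nonempty_fintype V
  set h' := k * h * k⁻¹ with hh'def
  have hh' : IsM V h' := hh.conj k
  have hnc : h * h' ≠ h' * h := hA.conj_noncommute hh hne
  set q := Nat.card (dsp h : AddSubgroup V) with hq
  have hq' : Nat.card (dsp h' : AddSubgroup V) = q := card_dsp_conj h k
  set W : AddSubgroup V := dsp h ⊔ dsp h' with hW
  set Z : AddSubgroup V := fix h ⊓ fix h' with hZ
  have hDD : ∀ v ∈ (dsp h : AddSubgroup V), v ∈ (dsp h' : AddSubgroup V) → v = 0 := by
    intro v hv hv'
    by_contra h0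
    exact hne (hA.eq_of_common hh' hh h0 hv' hv)
  have cardW : Nat.card W = q * q := by
    have := card_eq_mul_of (W := W) le_sup_left le_sup_right hDD
      (fun w hw => AddSubgroup.mem_sup.mp hw)
    rwa [hq'] at this
  have inf : ∀ v ∈ W, v ∈ Z → v = 0 := by
    intro v hv hvz
    obtain ⟨a, ha, b, hb, rfl⟩ := AddSubgroup.mem_sup.mp hv
    have e1 := mem_fix.mp hvz.1
    have e2 := mem_fix.mp hvz.2
    rw [smul_add, mem_fix.mp (hA.dsp_le_fix hh ha)] at e1
    rw [smul_add, mem_fix.mp (hA.dsp_le_fix hh' hb)] at e2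
    have hb0 : b = 0 := by
      by_contra h0
      exact hnc (hA.orth_of_fixed hh hh' h0 hb (add_left_cancel e1)).1
    have ha0 : a = 0 := by
      by_contra h0
      exact hnc (hA.orth_of_fixed hh' hh h0 ha (add_right_cancel e2)).1.symm
    rw [ha0, hb0, add_zero]
  have cardV : Nat.card V ≤ Nat.card W * Nat.card Z := by
    let φ : V →+ V × V := (dis h).prod (dis h')
    rw [AddSubgroup.card_eq_card_quotient_mul_card_addSubgroup φ.ker]
    refine Nat.mul_le_mul ?_ (AddSubgroup.card_le_of_le fun v hv =>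
      ⟨AddMonoidHom.mem_ker.mpr (congrArg Prod.fst (AddMonoidHom.mem_ker.mp hv)),
        AddMonoidHom.mem_ker.mpr (congrArg Prod.snd (AddMonoidHom.mem_ker.mp hv))⟩)
    rw [Nat.card_congr (QuotientAddGroup.quotientKerEquivRange φ).toEquiv, cardW]
    have : φ.range ≤ (dsp h : AddSubgroup V).prod (dsp h') := by
      rintro _ ⟨v, rfl⟩
      exact ⟨dis_mem h v, dis_mem h' v⟩
    refine (AddSubgroup.card_le_of_le this).trans ?_
    rw [Nat.card_congr (AddSubgroup.prodEquiv _ _).toEquiv, Nat.card_prod, hq']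
  have sup : ∀ v : V, ∃ w ∈ W, ∃ z ∈ Z, w + z = v := fun v =>
    exists_add_of_card (W := ⊤) le_top le_top inf (by rwa [AddSubgroup.card_top])
      (AddSubgroup.mem_top v)
  have eV : Nat.card V = Nat.card W * Nat.card Z := by
    have := card_eq_mul_of (W := (⊤ : AddSubgroup V)) le_top le_top inf (fun v _ => sup v)
    rwa [AddSubgroup.card_top] at this
  have mh : Mem Z h := ⟨hh, fun z hz => mem_fix.mp hz.1⟩
  have mh' : Mem Z h' := ⟨hh', fun z hz => mem_fix.mp hz.2⟩
  have hcls : ∀ m : H, Mem Z m → ∃ l : H, m = l * h * l⁻¹ := by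
    intro m hm
    by_cases c1 : h * m = m * h
    swap
    · exact hA.conj_of_noncommute hh hm.1 c1
    by_cases c2 : h' * m = m * h'
    swap
    · obtain ⟨l, hl⟩ := hA.conj_of_noncommute hh' hm.1 c2
      exact ⟨l * k, by rw [hl, hh'def]; group⟩
    refine absurd (hA.eq_one_of_fix (eq_top_iff.mpr fun v _ => ?_)) hm.1.1
    obtain ⟨w, hw, z, hz, rfl⟩ := sup v
    obtain ⟨a, ha, b, hb, rfl⟩ := AddSubgroup.mem_sup.mp hw
    rw [mem_fix, smul_add, smul_add, mem_fix.mp (hA.fix_dsp_of_commute hh c1.symm ha),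
      mem_fix.mp (hA.fix_dsp_of_commute hh' c2.symm hb), hm.2 z hz]
  have cardD : ∀ m : H, Mem Z m → Nat.card (dsp m : AddSubgroup V) = q := by
    intro m hm
    obtain ⟨l, rfl⟩ := hcls m hm
    exact card_dsp_conj h l
  have nonc : ∀ m m' : H, Mem Z m → Mem Z m' → m ≠ m' → m * m' ≠ m' * m := by
    intro m m' hm hm' hmm
    obtain ⟨l, rfl⟩ := hcls m hm
    obtain ⟨l', rfl⟩ := hcls m' hm'
    have e : l' * h * l'⁻¹ = (l' * l⁻¹) * (l * h * l⁻¹) * (l' * l⁻¹)⁻¹ := by group
    rw [e]
    exact hA.conj_noncommute hm.1 (by rw [← e]; exact Ne.symm hmm)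
  have nofix : ∀ m m' : H, Mem Z m → Mem Z m' → m ≠ m' →
      ∀ d ∈ (dsp m : AddSubgroup V), m' • d = d → d = 0 := by
    intro m m' hm hm' hmm d hd e
    by_contra h0
    exact nonc m' m hm' hm (Ne.symm hmm) (hA.orth_of_fixed hm'.1 hm.1 h0 hd e).1
  have dinf : ∀ m : H, Mem Z m → ∀ v ∈ Z, v ∈ (dsp m : AddSubgroup V) → v = 0 := by
    intro m hm v hv hv'
    by_cases e : m = h
    · exact nofix m h' hm mh' (by rw [e]; exact Ne.symm hne) v hv' (mh'.2 v hv)
    · exact nofix m h hm mh e v hv' (mh.2 v hv)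
  have ecard : ∀ m : H, Mem Z m → Nat.card (fix m : AddSubgroup V) = Nat.card Z * q := by
    intro m hm
    have h1 := card_fix_mul_dsp (V := V) m
    rw [cardD m hm, eV, cardW] at h1
    have hq0 : 0 < q := hq ▸ Nat.card_pos
    refine Nat.eq_of_mul_eq_mul_right hq0 ?_
    rw [h1]; ring
  have fdec : ∀ m : H, Mem Z m → ∀ v : V, m • v = v →
      ∃ z ∈ Z, ∃ d ∈ (dsp m : AddSubgroup V), z + d = v := by
    intro m hm v hv
    exact exists_add_of_card (fun z hz => mem_fix.mpr (hm.2 z hz)) (hA.dsp_le_fix hm.1)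
      (dinf m hm) (by rw [ecard m hm, cardD m hm]) (mem_fix.mpr hv)
  have KK : ∀ m m' : H, Mem Z m → Mem Z m' → m ≠ m' → ∀ v : V,
      m • v = v → m' • v = v → v ∈ Z := by
    intro m m' hm hm' hmm v e e'
    obtain ⟨z, hz, d, hd, rfl⟩ := fdec m hm v e
    rw [smul_add, hm'.2 z hz] at e'
    rw [nofix m m' hm hm' hmm d hd (add_left_cancel e'), add_zero]
    exact hz
  have stab : ∀ l : H, Fixes Z l → l ≠ 1 → ∀ v : V, v ∉ Z → l • v = v → Mem Z l := by
    intro l hl hl1 v hv hlv
    obtain ⟨m, hmM, hle⟩ := exists_isM_above (V := V) hl1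
    have hm : Mem Z m := ⟨hmM, fun z hz => mem_fix.mp (hle (mem_fix.mpr (hl z hz)))⟩
    have hmv : m • v = v := mem_fix.mp (hle (mem_fix.mpr hlv))
    have hlm : l * m * l⁻¹ = m := by
      by_contra hne'
      refine hv (KK _ _ (hm.conj hl) hm hne' v ?_ hmv)
      rw [mul_smul, mul_smul, inv_smul_eq_iff.mpr hlv.symm, hmv, hlv]
    have hc : l * m = m * l := by
      calc l * m = l * m * l⁻¹ * l := by group
        _ = m * l := by rw [hlm]
    have hge : (fix m : AddSubgroup V) ≤ fix l := by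
      intro w hw
      obtain ⟨z, hz, d, hd, rfl⟩ := fdec m hm w (mem_fix.mp hw)
      rw [mem_fix, smul_add, hl z hz, mem_fix.mp (hA.fix_dsp_of_commute hmM hc hd)]
    have heq := le_antisymm hle hge
    exact ⟨⟨hl1, fun l' hl' hle' => by rw [hmM.2 l' hl' (heq ▸ hle'), heq]⟩, hl⟩
  have cardK : ∀ m : H, Mem Z m → Nat.card ↥((fix m : AddSubgroup V) ⊓ W) = q := by
    intro m hm
    have e : Nat.card (fix m : AddSubgroup V) =
        Nat.card ↥((fix m : AddSubgroup V) ⊓ W) * Nat.card Z := by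
      refine card_eq_mul_of inf_le_left (fun z hz => mem_fix.mpr (hm.2 z hz))
        (fun v hv hvz => inf v hv.2 hvz) ?_
      intro v hv
      obtain ⟨w, hw, z, hz, rfl⟩ := sup v
      refine ⟨w, ⟨?_, hw⟩, z, hz, rfl⟩
      have hv' := mem_fix.mp hv
      rw [smul_add, hm.2 z hz, add_left_inj] at hv'
      exact mem_fix.mpr hv'
    rw [ecard m hm, mul_comm (Nat.card Z)] at e
    exact (Nat.eq_of_mul_eq_mul_right Nat.card_pos e).symm
  -- every nonzero vector of the plane is moved by a member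
  have cov : ∀ d ∈ W, d ≠ 0 → ∃ m : H, Mem Z m ∧ d ∈ (dsp m : AddSubgroup V) := by
    intro d hd hd0
    let f : W → W := fun w => ⟨(h • (h' • (w : V)) - h' • (w : V)) + (h' • (w : V) - w),
      W.add_mem (AddSubgroup.mem_sup_left (dis_mem h _)) (AddSubgroup.mem_sup_right (dis_mem h' _))⟩
    have finj : Function.Injective f := by
      intro a b e
      have e' := congrArg Subtype.val e
      simp only [f] at e'
      set w := (a : V) - b with hw
      have e1 : h • h' • w = w := by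
        rw [hw, smul_sub, smul_sub]
        rw [sub_add_sub_cancel, sub_add_sub_cancel] at e'
        exact sub_eq_sub_iff_sub_eq_sub.mp e'
      have e2 : h' • w - w = h • w - w := by
        congr 1
        conv_lhs => rw [← one_smul H (h' • w), ← hA.mul_self hh, mul_smul, e1]
      have e3 := hDD _ (dis_mem h w) (by rw [dis_apply, ← e2]; exact dis_mem h' w)
      rw [dis_apply] at e3
      have e4 : h' • w - w = 0 := by rw [e2, e3]
      exact Subtype.ext (sub_eq_zero.mp (inf w (W.sub_mem a.2 b.2)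
        ⟨mem_fix.mpr (sub_eq_zero.mp e3), mem_fix.mpr (sub_eq_zero.mp e4)⟩))
    obtain ⟨x, hx⟩ := (Finite.injective_iff_bijective.mp finj).2 ⟨d, hd⟩
    have hx' : (h * h') • (x : V) = x + d := by
      have := congrArg Subtype.val hx
      simp only [f] at this
      rw [mul_smul, ← this]; abel
    have hg : Fixes Z (hA.gd d) := fun z hz =>
      mem_fix.mp (hA.fix_le_gd hx' (mem_fix.mpr ((mh.2.mul mh'.2) z hz)))
    refine ⟨hA.gd d, stab _ hg (hA.gd_ne_one hd0 ⟨_, hx'⟩) d (fun c => hd0 (inf d hd c)) ?_,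
      mem_dsp.mpr ⟨x, hA.gd_spec ⟨_, hx'⟩⟩⟩
    rw [hA.gd_neg (x := (x : V)) ⟨_, hx'⟩, hA.neg_eq]
  -- counting the members
  set Mf := Finset.univ.filter fun m : H => Mem Z m with hMf
  set Wf := Finset.univ.filter fun v : V => v ∈ W with hWf
  have h0W : (0 : V) ∈ Wf := by simp [hWf, W.zero_mem]
  have hcW : (Wf.erase 0).card = q * q - 1 := by
    rw [Finset.card_erase_of_mem h0W, ← cardW, Nat.card_eq_fintype_card, Fintype.card_subtype]
  set Cd := Mf.biUnion fun m => Finset.univ.filter fun v : V =>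
    v ∈ (dsp m : AddSubgroup V) ∧ v ≠ 0 with hCd
  set Ck := Mf.biUnion fun m => Finset.univ.filter fun v : V =>
    v ∈ (fix m : AddSubgroup V) ⊓ W ∧ v ≠ 0 with hCk
  have cD : Cd.card = Mf.card * (q - 1) := by
    rw [hCd, card_family, Finset.sum_const_nat (m := q - 1)]
    · intro m hm
      rw [cardD m (Finset.mem_filter.mp hm).2]
    · intro i hi j hj hij v hv hv'
      by_contra c
      exact hij (hA.eq_of_common (Finset.mem_filter.mp hi).2.1 (Finset.mem_filter.mp hj).2.1 c hv hv')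
  have cK : Ck.card = Mf.card * (q - 1) := by
    rw [hCk, card_family, Finset.sum_const_nat (m := q - 1)]
    · intro m hm
      rw [cardK m (Finset.mem_filter.mp hm).2]
    · intro i hi j hj hij v hv hv'
      exact inf v hv.2 (KK i j (Finset.mem_filter.mp hi).2 (Finset.mem_filter.mp hj).2 hij v
        (mem_fix.mp hv.1) (mem_fix.mp hv'.1))
  have s1 : Wf.erase 0 ⊆ Cd := by
    intro v hv
    simp only [hWf, hCd, hMf, Finset.mem_biUnion, Finset.mem_filter, Finset.mem_univ, true_and,
      Finset.mem_erase] at hv ⊢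
    obtain ⟨m, hm, hvm⟩ := cov v hv.2 hv.1
    exact ⟨m, hm, hvm, hv.1⟩
  have s2 : Ck ⊆ Wf.erase 0 := by
    intro v hv
    simp only [hWf, hCk, Finset.mem_biUnion, Finset.mem_filter, Finset.mem_univ, true_and,
      Finset.mem_erase] at hv ⊢
    obtain ⟨m, _, hv1, hv0⟩ := hv
    exact ⟨hv0, hv1.2⟩
  have e1 := Finset.card_le_card s1
  have e2 := Finset.card_le_card s2
  rw [cK] at e2
  rw [cD] at e1
  have hCdW : Wf.erase 0 = Cd := Finset.eq_of_subset_of_card_le s1 (by rw [cD]; exact e2)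
  have hDW : ∀ m : H, Mem Z m → (dsp m : AddSubgroup V) ≤ W := by
    intro m hm v hv
    by_cases h0 : v = 0
    · rw [h0]; exact W.zero_mem
    have : v ∈ Wf.erase 0 := by
      rw [hCdW, hCd]
      simp only [hMf, Finset.mem_biUnion, Finset.mem_filter, Finset.mem_univ, true_and]
      exact ⟨m, hm, hv, h0⟩
    simpa [hWf, h0] using this
  have stable : ∀ l : H, Fixes Z l → (dsp l : AddSubgroup V) ≤ W := by
    rintro l hl v hv
    obtain ⟨x, hx⟩ := mem_dsp.mp hv
    obtain ⟨w, hw, z, hz, rfl⟩ := sup x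
    have hlw : l • w ∈ W := by
      by_cases h0 : w = 0
      · rw [h0, smul_zero]; exact W.zero_mem
      obtain ⟨m, hm, hwm⟩ := cov w hw h0
      exact hDW _ (hm.conj hl) (smul_mem_dsp_conj hwm)
    rw [smul_add, hl z hz, add_right_comm w z v] at hx
    have := W.sub_mem hlw hw
    rwa [add_right_cancel hx, add_sub_cancel_left] at this
  have hP : Plane H W Z q :=
    ⟨inf, sup, cardW, stable, cardD, cardK,
      fun m m' hm hm' hmm w hw e e' => inf w hw (KK m m' hm hm' hmm w e e'),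
      fun l hl hl1 w hw hw0 e => stab l hl hl1 w (fun c => hw0 (inf w hw c)) e⟩
  refine hP.rich hA ?_
  have hqq : 1 < q := hP.one_lt_q hA mh
  have hN : Mf.card * (q - 1) = (q + 1) * (q - 1) := by
    rw [hcW] at e1 e2
    rw [show (q + 1) * (q - 1) = q * q - 1 by
      simpa [pow_two] using (Nat.sq_sub_sq q 1).symm]
    exact le_antisymm e2 e1
  rw [Nat.card_eq_fintype_card, Fintype.card_subtype]
  exact Nat.eq_of_mul_eq_mul_right (by omega) hN

/-- Characteristic two: the plane is everything. -/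
theorem two_top {h : H} (hh : IsM V h) : ∃ q : ℕ, Rich H (⊤ : AddSubgroup V) ⊥ q := by
  have hf : (fix h : AddSubgroup V) ≠ ⊥ := by
    intro e
    obtain ⟨d, hd, hd0⟩ := hA.dsp_ne_bot hh
    have := hA.dsp_le_fix hh hd
    rw [e] at this
    exact hd0 (by simpa using this)
  obtain ⟨k, hk⟩ := hA.exists_conj_ne hh hf
  have hR := hA.rich_two hh hk
  set q := Nat.card (dsp h : AddSubgroup V) with hqdef
  set W : AddSubgroup V := dsp h ⊔ dsp (k * h * k⁻¹) with hW
  set Z : AddSubgroup V := fix h ⊓ fix (k * h * k⁻¹) with hZ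
  have mh : Mem Z h := ⟨hh, fun z hz => mem_fix.mp hz.1⟩
  have hq := hR.one_lt_q hA mh
  have hall : ∀ l : H, (dsp (l * h * l⁻¹) : AddSubgroup V) ≤ W := by
    intro l
    by_contra hc
    have hM := hh.conj l
    obtain ⟨w, hwW, hw0, hw⟩ : ∃ w ∈ W, w ≠ 0 ∧ (l * h * l⁻¹) • w = w := by
      by_contra hcon
      push Not at hcon
      have : Nat.card W ≤ Nat.card (dsp (l * h * l⁻¹) : AddSubgroup V) := by
        refine Nat.card_le_card_of_injective
          (fun w : W => (⟨dis (l * h * l⁻¹) (w : V), dis_mem _ _⟩ :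
            (dsp (l * h * l⁻¹) : AddSubgroup V))) ?_
        intro a b e
        by_contra hab
        have h0 : dis (l * h * l⁻¹) ((a : V) - b) = 0 := by
          rw [map_sub, sub_eq_zero]; exact congrArg Subtype.val e
        rw [dis_apply, sub_eq_zero] at h0
        exact hcon _ (W.sub_mem a.2 b.2) (fun c => hab (Subtype.ext (sub_eq_zero.mp c))) h0
      rw [hR.cardW, card_dsp_conj, ← hqdef] at this
      nlinarith
    obtain ⟨L, hL, hwL⟩ := hR.coverD w hwW hw0
    have hcomm := (hA.orth_of_fixed hM hL.1 hw0 hwL hw).1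
    have hne : L ≠ l * h * l⁻¹ := fun e => hc (e ▸ hR.stable L hL.2)
    have hcls : ∃ l0 : H, L = l0 * h * l0⁻¹ := by
      by_cases c : h * L = L * h
      swap
      · exact hA.conj_of_noncommute hh hL.1 c
      by_cases c' : (k * h * k⁻¹) * L = L * (k * h * k⁻¹)
      swap
      · obtain ⟨l0, hl0⟩ := hA.conj_of_noncommute (hh.conj k) hL.1 c'
        exact ⟨l0 * k, by rw [hl0]; group⟩
      refine absurd (hA.eq_one_of_fix (eq_top_iff.mpr fun v _ => ?_)) hL.1.1
      obtain ⟨u, hu, z, hz, rfl⟩ := hR.sup v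
      obtain ⟨a, ha, b, hb, rfl⟩ := AddSubgroup.mem_sup.mp hu
      rw [mem_fix, smul_add, smul_add, mem_fix.mp (hA.fix_dsp_of_commute hh c.symm ha),
        mem_fix.mp (hA.fix_dsp_of_commute (hh.conj k) c'.symm hb), hL.2 z hz]
    obtain ⟨l0, rfl⟩ := hcls
    have e : l * h * l⁻¹ = (l * l0⁻¹) * (l0 * h * l0⁻¹) * (l * l0⁻¹)⁻¹ := by group
    refine hA.conj_noncommute hL.1 (k := l * l0⁻¹) (by rw [← e]; exact Ne.symm hne) ?_
    rw [← e]
    exact hcomm.symm
  have htop : W = ⊤ := by
    rcases hA.irr W (fun l w hw => by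
      obtain ⟨a, ha, b, hb, rfl⟩ := AddSubgroup.mem_sup.mp hw
      rw [smul_add]
      refine W.add_mem (hall l (smul_mem_dsp_conj ha)) ?_
      have := smul_mem_dsp_conj (k := l) hb
      rw [show l * (k * h * k⁻¹) * l⁻¹ = (l * k) * h * (l * k)⁻¹ by group] at this
      exact hall _ this) with e | e
    · obtain ⟨d, hd, hd0⟩ := hA.dsp_ne_bot hh
      have := hR.stable h mh.2 hd
      rw [e] at this
      exact absurd (by simpa using this) hd0
    · exact e
  refine ⟨q, ?_⟩
  have hZb : Z = ⊥ := by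
    rw [AddSubgroup.eq_bot_iff_forall]
    exact fun z hz => hR.inf z (by rw [htop]; trivial) hz
  rw [htop, hZb] at hR
  exact hR

end Affine

end Cfsg.Agent.H52.Binary
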