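import Cfsg.Agent.H52.Binary.OddGlobal
import Cfsg.Agent.H52.Binary.Two

/-!
The classification of affine binary point stabilisers.
-/

set_option autoImplicit false
set_option linter.unusedSectionVars false

namespace Cfsg.Agent.H52.Binary

variable {H V : Type*} [Group H] [AddCommGroup V] [DistribMulAction H V] [Finite H] [Finite V]

namespace Affine

variable {p q : ℕ} (hA : Affine H V p)

include hA

theorem semireg [Nontrivial V] (hall : ∀ h : H, IsM V h → (fix h : AddSubgroup V) = ⊥) :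
    Nat.card H ≤ 2 ∧ (Nat.card V).Prime := by
  have hfix : ∀ k : H, k ≠ 1 → (fix k : AddSubgroup V) = ⊥ := fun k hk => by
    obtain ⟨h, hh, hle⟩ := exists_isM_above (V := V) hk
    exact le_bot_iff.mp (hall h hh ▸ hle)
  have hM : ∀ k : H, k ≠ 1 → IsM V k := fun k hk =>
    ⟨hk, fun l hl _ => by rw [hfix l hl, hfix k hk]⟩
  have hneg : ∀ k : H, k ≠ 1 → ∀ v : V, k • v = -v := by
    intro k hk v
    have h1 := card_fix_mul_dsp (V := V) k
    rw [hfix k hk, AddSubgroup.card_bot, one_mul] at h1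
    have h2 : (dsp k : AddSubgroup V) = ⊤ := AddSubgroup.eq_top_of_card_eq _ h1
    exact hA.smul_dsp (hM k hk) (h2 ▸ AddSubgroup.mem_top v)
  constructor
  · classical
    have : Nat.card H ≤ Nat.card Bool := by
      refine Nat.card_le_card_of_injective (fun k : H => decide (k = 1)) ?_
      intro a b e
      have e' : a = 1 ↔ b = 1 := by simpa using e
      by_cases ha : a = 1
      · rw [ha, e'.mp ha]
      · have hb : b ≠ 1 := fun c => ha (e'.mpr c)
        have hab : a⁻¹ * b = 1 := hA.faith _ fun v => by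
          rw [mul_smul, inv_smul_eq_iff, hneg b hb, hneg a ha]
        exact inv_mul_eq_one.mp hab
    simpa using this
  · obtain ⟨v, hv⟩ := exists_ne (0 : V)
    have hT : AddSubgroup.zmultiples v = ⊤ := by
      refine (hA.irr _ fun k t ht => ?_).resolve_left fun c => hv ?_
      · by_cases hk : k = 1
        · rw [hk, one_smul]; exact ht
        · rw [hneg k hk]; exact AddSubgroup.neg_mem _ ht
      · simpa [c] using AddSubgroup.mem_zmultiples v
    have : Fact p.Prime := ⟨hA.pp⟩
    have hc : Nat.card V = p := by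
      rw [← AddSubgroup.card_top, ← hT, Nat.card_zmultiples, addOrderOf_eq_prime (hA.exp v) hv]
    rw [hc]; exact hA.pp

variable (hR : Rich H (⊤ : AddSubgroup V) ⊥ q)

include hR

omit hA hR in
theorem mem_bot_iff {m : H} : Mem (⊥ : AddSubgroup V) m ↔ IsM V m := by
  refine ⟨fun h => h.1, fun h => ⟨h, fun z hz => ?_⟩⟩
  rw [AddSubgroup.mem_bot.mp hz, smul_zero]

omit hA hR in
theorem fixes_bot (k : H) : Fixes (⊥ : AddSubgroup V) k := fun z hz => by
  rw [AddSubgroup.mem_bot.mp hz, smul_zero]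

theorem mul_isM {h k : H} (hh : IsM V h) (hk : ¬ IsM V k) : IsM V (h * k) :=
  (hR.mul_mem_of_not_mem hA (mem_bot_iff.mpr hh) (fixes_bot k)
    (fun c => hk (mem_bot_iff.mp c))).1

theorem mul_not_isM {h m : H} (hh : IsM V h) (hm : IsM V m) : ¬ IsM V (h * m) := by
  by_cases e : h = m
  · rw [← e, hA.mul_self hh]
    exact fun c => c.1 rfl
  · exact fun c =>
      (hR.mul_not_mem hA (mem_bot_iff.mpr hh) (mem_bot_iff.mpr hm) e).1 (mem_bot_iff.mpr c)

theorem free {r : H} (hr : ¬ IsM V r) (h1 : r ≠ 1) {v : V} (e : r • v = v) : v = 0 := by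
  by_contra h0
  exact hr (mem_bot_iff.mp (hR.stab r (fixes_bot r) h1 v (AddSubgroup.mem_top v) h0 e))

theorem conj_inv {h r : H} (hh : IsM V h) (hr : ¬ IsM V r) : h * r * h⁻¹ = r⁻¹ := by
  rw [hA.inv_eq hh]
  refine eq_inv_of_mul_eq_one_left ?_
  calc h * r * h * r = (h * r) * (h * r) := by group
    _ = 1 := hA.mul_self (mul_isM hA hR hh hr)

theorem comm {r s : H} (hr : ¬ IsM V r) (hs : ¬ IsM V s) {h : H} (hh : IsM V h) :
    r * s = s * r := by
  have h1 := conj_inv hA hR (mul_isM hA hR hh hr) hs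
  rw [← conj_inv hA hR hh hs] at h1
  have h2 : h * (r * s * r⁻¹) * h⁻¹ = h * s * h⁻¹ := by rw [← h1]; group
  have h3 : r * s * r⁻¹ = s := mul_left_cancel (mul_right_cancel h2)
  exact mul_inv_eq_iff_eq_mul.mp h3

theorem neg_of_involution {r : H} (hr : ¬ IsM V r) (h1 : r ≠ 1) (h2 : r * r = 1) (v : V) :
    r • v = -v := by
  refine eq_neg_of_add_eq_zero_left (free hA hR hr h1 ?_)
  rw [smul_add, ← mul_smul, h2, one_smul, add_comm]

theorem mul_notM {r s : H} (hr : ¬ IsM V r) (hs : ¬ IsM V s) {h : H} (hh : IsM V h) :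
    ¬ IsM V (r * s) := by
  intro hm
  have key : ∀ t : H, ¬ IsM V t → (r * s) * t = t * (r * s) → t * t = 1 := by
    intro t ht hc
    have := conj_inv hA hR hm ht
    rw [hc, mul_inv_cancel_right] at this
    exact mul_eq_one_iff_eq_inv.mpr this
  have c := comm hA hR hr hs hh
  have hr2 : r * r = 1 := key r hr (by rw [mul_assoc, ← c])
  have hs2 : s * s = 1 := key s hs (by rw [← mul_assoc s r s, ← c])
  by_cases r1 : r = 1
  · rw [r1, one_mul] at hm; exact hs hm
  by_cases s1 : s = 1
  · rw [s1, mul_one] at hm; exact hr hm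
  refine hm.1 (hA.faith _ fun v => ?_)
  rw [mul_smul, neg_of_involution hA hR hs s1 hs2, smul_neg, neg_of_involution hA hR hr r1 hr2,
    neg_neg]

theorem field_model {h : H} (hh : IsM V h) :
    ∃ (E : Type) (_ : Field E) (_ : Fintype E) (F : Subfield E) (e : V ≃+ E),
      Module.finrank F E = 2 ∧ ∀ f : V → V, (∃ k : H, ∀ v, k • v = f v) ↔
        ∃ (a : E) (φ : E ≃ₐ[F] E), Algebra.norm F a = 1 ∧ ∀ v, e (f v) = a * φ (e v) := by
  classical
  have : Fact p.Prime := ⟨hA.pp⟩
  have mh : Mem (⊥ : AddSubgroup V) h := mem_bot_iff.mpr hh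
  have hq1 : 1 < q := hR.one_lt_q hA mh
  have cardV : Nat.card V = q * q := by rw [← AddSubgroup.card_top, hR.cardW]
  -- the cyclic part
  let R : Subgroup H :=
    { carrier := {r | ¬ IsM V r}
      one_mem' := fun c => c.1 rfl
      mul_mem' := fun ha hb => mul_notM hA hR ha hb hh
      inv_mem' := fun {r} hr c => hr (by
        rw [← conj_inv hA hR hh hr] at c
        have := c.conj h⁻¹
        rwa [show h⁻¹ * (h * r * h⁻¹) * h⁻¹⁻¹ = r by group] at this) }
  have memR : ∀ {r : H}, r ∈ R ↔ ¬ IsM V r := Iff.rfl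
  have cardR : Nat.card R = q + 1 := by
    rw [← hR.num]
    refine Nat.card_congr ⟨fun r => ⟨h * r.1, mem_bot_iff.mpr (mul_isM hA hR hh (memR.mp r.2))⟩,
      fun m => ⟨h * m.1, memR.mpr (mul_not_isM hA hR hh (mem_bot_iff.mp m.2))⟩, ?_, ?_⟩
    · intro r; refine Subtype.ext ?_
      change h * (h * r.1) = r.1
      rw [← mul_assoc, hA.mul_self hh, one_mul]
    · intro m; refine Subtype.ext ?_
      change h * (h * m.1) = m.1
      rw [← mul_assoc, hA.mul_self hh, one_mul]
  -- the size of `q`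
  obtain ⟨c, rfl⟩ : ∃ c, q = p ^ c := by
    have hp : IsPGroup p (Multiplicative V) := fun g => ⟨1, by
      rw [pow_one]
      exact hA.exp (Multiplicative.toAdd g)⟩
    obtain ⟨n, hn⟩ := IsPGroup.iff_card.mp hp
    have hdvd : q ∣ p ^ n :=
      ⟨q, by rw [← hn, show Nat.card (Multiplicative V) = Nat.card V from rfl, cardV]⟩
    obtain ⟨c, _, hc⟩ := (Nat.dvd_prime_pow hA.pp).mp hdvd
    exact ⟨c, hc⟩
  have hc0 : c ≠ 0 := fun e => by simp [e] at hq1
  -- irreducibility of the cyclic part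
  have hirr : ∀ T : AddSubgroup V, (∀ r ∈ R, ∀ t ∈ T, r • t ∈ T) → T = ⊥ ∨ T = ⊤ := by
    intro T hT
    by_contra hcon
    push Not at hcon
    let X := {t : V // t ∈ T ∧ t ≠ 0}
    let act : MulAction R X :=
      { smul := fun r t => ⟨r.1 • t.1, hT r.1 r.2 t.1 t.2.1,
          fun e => t.2.2 ((smul_eq_zero_iff_eq r.1).mp e)⟩
        one_smul := fun t => Subtype.ext (one_smul H t.1)
        mul_smul := fun a b t => Subtype.ext (mul_smul a.1 b.1 t.1) }
    have hstab : ∀ b : X, MulAction.stabilizer R b = ⊥ := by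
      intro b
      rw [Subgroup.eq_bot_iff_forall]
      intro r hr
      by_contra r1
      have : r.1 • b.1 = b.1 := congrArg Subtype.val hr
      exact b.2.2 (free hA hR (memR.mp r.2) (fun e => r1 (Subtype.ext e)) this)
    have hdvd : p ^ c + 1 ∣ Nat.card X := by
      rw [Nat.card_congr (MulAction.selfEquivOrbitsQuotientProd hstab), Nat.card_prod, cardR]
      exact dvd_mul_left _ _
    have hX : Nat.card X = Nat.card T - 1 := by
      cases nonempty_fintype V
      rw [← card_filter_ne_zero T, Nat.card_eq_fintype_card, Fintype.card_subtype]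
    have hTd : Nat.card T ∣ p ^ (c + c) := by
      rw [pow_add, ← cardV]; exact AddSubgroup.card_addSubgroup_dvd_card T
    obtain ⟨j, hj, hTj⟩ := (Nat.dvd_prime_pow hA.pp).mp hTd
    rw [hX, hTj] at hdvd
    have hj0 : j ≠ 0 := fun e => hcon.1 (AddSubgroup.card_eq_one.mp (by rw [hTj, e, pow_zero]))
    have hj2 : j < c + c := lt_of_le_of_ne hj fun e => hcon.2
      (AddSubgroup.eq_top_of_card_eq _ (by rw [hTj, e, cardV, pow_add]))
    have hp1 := hA.pp.one_lt
    have hpj : 1 < p ^ j := Nat.one_lt_pow hj0 hp1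
    by_cases hjc : j ≤ c
    · have := Nat.le_of_dvd (by omega) hdvd
      have := Nat.pow_le_pow_right hA.pp.pos hjc
      omega
    · obtain ⟨i, rfl⟩ : ∃ i, j = i + c := ⟨j - c, by omega⟩
      have h1 : p ^ c + 1 ∣ p ^ i + 1 := by
        have h2 : p ^ c + 1 ∣ p ^ i * (p ^ c + 1) := dvd_mul_left _ _
        have e : p ^ i * (p ^ c + 1) - (p ^ (i + c) - 1) = p ^ i + 1 := by
          rw [mul_add, mul_one, ← pow_add]; omega
        rw [← e]
        exact Nat.dvd_sub h2 hdvd
      have := Nat.le_of_dvd (by positivity) h1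
      have := Nat.pow_lt_pow_right hp1 (show i < c by omega)
      omega
  -- the field
  let ρ : H →* AddMonoid.End V := DistribMulAction.toAddMonoidEnd H V
  have ρap : ∀ (k : H) (v : V), ρ k v = k • v := fun k v => rfl
  let A : Subring (AddMonoid.End V) := Subring.closure (ρ '' (R : Set H))
  have hρA : ∀ r ∈ R, ρ r ∈ A := fun r hr => Subring.subset_closure ⟨r, hr, rfl⟩
  have hcent : ∀ r ∈ R, ∀ a ∈ A, ρ r * a = a * ρ r := by
    intro r hr a ha
    refine Subring.closure_induction (p := fun a _ => ρ r * a = a * ρ r) ?_ ?_ ?_ ?_ ?_ ?_ ha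
    · rintro _ ⟨s, hs, rfl⟩
      rw [← map_mul, ← map_mul, comm hA hR (memR.mp hr) (memR.mp hs) hh]
    · rw [mul_zero, zero_mul]
    · rw [mul_one, one_mul]
    · intro a b _ _ ea eb
      rw [mul_add, add_mul, ea, eb]
    · intro a _ ea
      rw [mul_neg, neg_mul, ea]
    · intro a b _ _ ea eb
      rw [← mul_assoc, ea, mul_assoc, eb, mul_assoc]
  have hcomm : ∀ a b : A, a * b = b * a := by
    intro a b
    refine Subtype.ext (Subring.closure_induction
      (p := fun x _ => x * (b : AddMonoid.End V) = b * x) ?_ ?_ ?_ ?_ ?_ ?_ a.2)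
    · rintro _ ⟨r, hr, rfl⟩
      exact hcent r hr b b.2
    · rw [zero_mul, mul_zero]
    · rw [one_mul, mul_one]
    · intro x y _ _ ex ey
      rw [add_mul, mul_add, ex, ey]
    · intro x _ ex
      rw [neg_mul, mul_neg, ex]
    · intro x y _ _ ex ey
      rw [mul_assoc, ey, ← mul_assoc, ex, mul_assoc]
  letI commA : CommRing A := { (inferInstance : Ring A) with mul_comm := hcomm }
  have hinj : ∀ a : A, a ≠ 0 → ∀ v : V, (a : AddMonoid.End V) v = 0 → v = 0 := by
    intro a ha v hv
    let K : AddSubgroup V :=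
      { carrier := {x | (a : AddMonoid.End V) x = 0}
        zero_mem' := map_zero (a : AddMonoid.End V)
        add_mem' := fun {x y} hx hy => by
          change (a : AddMonoid.End V) (x + y) = 0
          rw [map_add, hx, hy, add_zero]
        neg_mem' := fun {x} hx => by
          change (a : AddMonoid.End V) (-x) = 0
          rw [map_neg, hx, neg_zero] }
    rcases hirr K (fun r hr t ht => by
      change (a : AddMonoid.End V) (ρ r t) = 0
      have := congrArg (fun z : AddMonoid.End V => z t) (hcent r hr a a.2)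
      simp only [AddMonoid.End.coe_mul, Function.comp] at this
      rw [← this, (ht : (a : AddMonoid.End V) t = 0), map_zero]) with e | e
    · have : v ∈ K := hv
      rwa [e, AddSubgroup.mem_bot] at this
    · exact absurd (Subtype.ext (AddMonoidHom.ext fun x => by
        have : x ∈ K := e ▸ AddSubgroup.mem_top x
        exact this)) ha
  have hnt : Nontrivial V := by
    rw [← Finite.one_lt_card_iff_nontrivial, cardV]; nlinarith
  have : Nontrivial ↥(fix h : AddSubgroup V) := by
    rw [← Finite.one_lt_card_iff_nontrivial]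
    have := hR.cardK h mh
    rw [inf_top_eq] at this
    rw [this]; exact hq1
  obtain ⟨x0, hx0⟩ := exists_ne (0 : ↥(fix h : AddSubgroup V))
  have hx00 : (x0 : V) ≠ 0 := fun e => hx0 (Subtype.ext e)
  have hhx0 : h • (x0 : V) = x0 := mem_fix.mp x0.2
  let ev : A →+ V := AddMonoidHom.mk' (fun a => (a : AddMonoid.End V) (x0 : V))
    (fun a b => rfl)
  have evinj : Function.Injective ev := by
    intro a b e
    by_contra hab
    refine hx00 (hinj (a - b) (sub_ne_zero.mpr hab) _ ?_)
    change (a : AddMonoid.End V) (x0 : V) - (b : AddMonoid.End V) (x0 : V) = 0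
    exact sub_eq_zero.mpr e
  have evsurj : Function.Surjective ev := by
    have : ev.range = ⊤ := by
      refine (hirr ev.range ?_).resolve_left ?_
      · rintro r hr _ ⟨a, rfl⟩
        exact ⟨⟨ρ r, hρA r hr⟩ * a, rfl⟩
      · intro e
        have : ev 1 ∈ ev.range := ⟨1, rfl⟩
        rw [e, AddSubgroup.mem_bot] at this
        exact hx00 this
    exact AddMonoidHom.range_eq_top.mp this
  have finA : Finite A := Finite.of_injective ev evinj
  have : Nontrivial A := ⟨⟨1, 0, fun e => hx00 (by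
    have := congrArg (fun a : A => (a : AddMonoid.End V) (x0 : V)) e
    simpa using this)⟩⟩
  have : NoZeroDivisors A := ⟨fun {a b} hab => by
    by_cases ha : a = 0
    · exact Or.inl ha
    right
    refine Subtype.ext (AddMonoidHom.ext fun x => hinj a ha _ ?_)
    have := congrArg (fun z : A => (z : AddMonoid.End V) x) hab
    exact this⟩
  have : IsDomain A := NoZeroDivisors.to_isDomain A
  letI fieldA : Field A := (Finite.isDomain_to_isField A).toField
  have : Fintype A := Fintype.ofFinite A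
  let E := GaloisField p (c + c)
  have : Fintype E := Fintype.ofFinite E
  have cardE : Nat.card E = p ^ c * p ^ c := by
    rw [GaloisField.card p (c + c) (by omega), pow_add]
  let ψ : A ≃+* E := FiniteField.ringEquivOfCardEq (by
    rw [← Nat.card_eq_fintype_card, ← Nat.card_eq_fintype_card, cardE, ← cardV]
    exact Nat.card_congr (Equiv.ofBijective ev ⟨evinj, evsurj⟩))
  let evE : A ≃+ V := AddEquiv.ofBijective ev ⟨evinj, evsurj⟩
  let e : V ≃+ E := evE.symm.trans ψ.toAddEquiv
  have eap : ∀ a : A, e ((a : AddMonoid.End V) (x0 : V)) = ψ a := by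
    intro a
    change ψ (evE.symm (evE a)) = ψ a
    rw [AddEquiv.symm_apply_apply]
  let u : R → E := fun r => ψ ⟨ρ r.1, hρA r.1 r.2⟩
  have er : ∀ (r : R) (v : V), e (r.1 • v) = u r * e v := by
    intro r v
    obtain ⟨a, rfl⟩ := evsurj v
    change e (((⟨ρ r.1, hρA r.1 r.2⟩ * a : A) : AddMonoid.End V) (x0 : V)) = _
    rw [eap, map_mul]
    change _ = u r * e ((a : AddMonoid.End V) (x0 : V))
    rw [eap]
  have u_mul : ∀ r s : R, u (r * s) = u r * u s := by
    intro r s
    simp only [u]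
    rw [← map_mul]
    congr 1
    exact Subtype.ext (map_mul ρ r.1 s.1)
  have u_one : u 1 = 1 := by
    simp only [u]
    rw [← map_one ψ]
    congr 1
    exact Subtype.ext (map_one ρ)
  let uh : R →* E := { toFun := u, map_one' := u_one, map_mul' := u_mul }
  have u_inj : Function.Injective u := by
    intro r s hrs
    have hz : (r.1 : H)⁻¹ * s.1 = 1 := hA.faith _ fun v => by
      rw [mul_smul, inv_smul_eq_iff]
      apply e.injective
      rw [er r, er s, hrs]
    exact Subtype.ext (inv_mul_eq_one.mp hz)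
  have u_pow : ∀ r : R, u r ^ (p ^ c + 1) = 1 := by
    intro r
    change uh r ^ (p ^ c + 1) = 1
    rw [← map_pow, ← cardR, pow_card_eq_one', map_one]
  let frq : E →+* E := iterateFrobenius E p c
  have frq_def : ∀ x, frq x = x ^ p ^ c := fun x => iterateFrobenius_def ..
  have hh2 : ρ h * ρ h = 1 := by rw [← map_mul, hA.mul_self hh, map_one]
  have key : ∀ a : A, e (h • (a : AddMonoid.End V) (x0 : V)) = frq (ψ a) := by
    rintro ⟨a, ha⟩
    have : ∃ ha' : ρ h * a * ρ h ∈ A, ψ ⟨_, ha'⟩ = frq (ψ ⟨a, ha⟩) := by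
      refine Subring.closure_induction (p := fun a ha =>
        ∃ ha' : ρ h * a * ρ h ∈ A, ψ ⟨_, ha'⟩ = frq (ψ ⟨a, ha⟩)) ?_ ?_ ?_ ?_ ?_ ?_ ha
      · rintro _ ⟨r, hr, rfl⟩
        have e1 : ρ h * ρ r * ρ h = ρ r⁻¹ := by
          rw [← map_mul, ← map_mul, ← conj_inv hA hR hh (memR.mp hr), hA.inv_eq hh]
        refine ⟨by rw [e1]; exact hρA _ (R.inv_mem hr), ?_⟩
        have h1 : u (⟨r, hr⟩⁻¹ : R) = frq (u ⟨r, hr⟩) := by
          have h2 : u (⟨r, hr⟩⁻¹ : R) * u ⟨r, hr⟩ = 1 := by rw [← u_mul, inv_mul_cancel, u_one]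
          have h3 := u_pow ⟨r, hr⟩
          rw [pow_succ, ← frq_def] at h3
          calc u (⟨r, hr⟩⁻¹ : R) = u (⟨r, hr⟩⁻¹ : R) * (frq (u ⟨r, hr⟩) * u ⟨r, hr⟩) := by
                rw [h3, mul_one]
            _ = frq (u ⟨r, hr⟩) := by rw [mul_left_comm, h2, mul_one]
        refine Eq.trans ?_ h1
        exact congrArg ψ (Subtype.ext e1)
      · refine ⟨by rw [mul_zero, zero_mul]; exact A.zero_mem, ?_⟩
        rw [show (⟨(0 : AddMonoid.End V), _⟩ : A) = 0 from rfl, map_zero, map_zero, ← map_zero ψ]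
        exact congrArg ψ (Subtype.ext (show ρ h * (0 : AddMonoid.End V) * ρ h = 0 by rw [mul_zero, zero_mul]))
      · refine ⟨by rw [mul_one, hh2]; exact A.one_mem, ?_⟩
        rw [show (⟨(1 : AddMonoid.End V), _⟩ : A) = 1 from rfl, map_one, map_one, ← map_one ψ]
        exact congrArg ψ (Subtype.ext (show ρ h * (1 : AddMonoid.End V) * ρ h = 1 by rw [mul_one, hh2]))
      · intro x y hx hy ⟨hx', ex⟩ ⟨hy', ey⟩
        refine ⟨by rw [mul_add, add_mul]; exact A.add_mem hx' hy', ?_⟩
        rw [show (⟨x + y, _⟩ : A) = ⟨x, hx⟩ + ⟨y, hy⟩ from rfl, map_add, map_add, ← ex, ← ey,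
          ← map_add]
        exact congrArg ψ (Subtype.ext (show ρ h * (x + y) * ρ h = ρ h * x * ρ h + ρ h * y * ρ h by
          rw [mul_add, add_mul]))
      · intro x hx ⟨hx', ex⟩
        refine ⟨by rw [mul_neg, neg_mul]; exact A.neg_mem hx', ?_⟩
        rw [show (⟨-x, _⟩ : A) = -⟨x, hx⟩ from rfl, map_neg, map_neg, ← ex, ← map_neg]
        exact congrArg ψ (Subtype.ext (show ρ h * -x * ρ h = -(ρ h * x * ρ h) by rw [mul_neg, neg_mul]))
      · intro x y hx hy ⟨hx', ex⟩ ⟨hy', ey⟩
        have e1 : ρ h * (x * y) * ρ h = (ρ h * x * ρ h) * (ρ h * y * ρ h) := by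
          simp only [mul_assoc]
          rw [← mul_assoc (ρ h) (ρ h), hh2, one_mul]
        refine ⟨by rw [e1]; exact A.mul_mem hx' hy', ?_⟩
        rw [show (⟨x * y, _⟩ : A) = ⟨x, hx⟩ * ⟨y, hy⟩ from rfl, map_mul, map_mul, ← ex, ← ey,
          ← map_mul]
        exact congrArg ψ (Subtype.ext e1)
    obtain ⟨ha', e1⟩ := this
    rw [← e1, ← eap]
    congr 1
    change ρ h (a (x0 : V)) = ρ h (a (ρ h (x0 : V)))
    rw [ρap h (x0 : V), hhx0]
  have eh : ∀ v : V, e (h • v) = frq (e v) := by
    intro v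
    obtain ⟨a, rfl⟩ := evsurj v
    change e (h • (a : AddMonoid.End V) (x0 : V)) = frq (e ((a : AddMonoid.End V) (x0 : V)))
    rw [key, eap]
  let F : Subfield E := RingHom.eqLocusField frq (RingHom.id E)
  have cardF : Nat.card F = p ^ c := by
    have h1 := hR.cardK h mh
    rw [inf_top_eq] at h1
    rw [← h1]
    refine (Nat.card_congr (e.toEquiv.subtypeEquiv (fun v => ?_))).symm
    change v ∈ (fix h : AddSubgroup V) ↔ frq (e v) = e v
    rw [mem_fix, ← eh]
    exact e.injective.eq_iff.symm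
  have hfin : Module.finrank F E = 2 := by
    have h1 := Module.natCard_eq_pow_finrank (K := F) (V := E)
    rw [cardE, cardF, ← pow_two] at h1
    exact (Nat.pow_right_injective (by omega) h1).symm
  have frq_bij : Function.Bijective frq := Finite.injective_iff_bijective.mp frq.injective
  let φ0 : E ≃ₐ[F] E :=
    AlgEquiv.ofRingEquiv (f := RingEquiv.ofBijective frq frq_bij) (fun x => x.2)
  have φ0ap : ∀ x, φ0 x = frq x := fun x => rfl
  have φ0ne : φ0 ≠ 1 := by
    intro e1
    refine hh.1 (hA.faith h fun v => e.injective ?_)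
    rw [eh, ← φ0ap, e1]
    rfl
  have autE : ∀ φ : E ≃ₐ[F] E, φ = 1 ∨ φ = φ0 := by
    intro φ
    by_contra hcon
    push Not at hcon
    have h3 : ({φ, 1, φ0} : Finset (E ≃ₐ[F] E)).card = 3 := by
      rw [Finset.card_insert_of_notMem (by simp [hcon.1, hcon.2]), Finset.card_pair (Ne.symm φ0ne)]
    have h4 := Finset.card_le_univ ({φ, 1, φ0} : Finset (E ≃ₐ[F] E))
    have h5 := (AlgEquiv.card_le (F := F) (K := E))
    rw [hfin] at h5
    omega
  have hnorm : ∀ a : E, Algebra.norm F a = 1 ↔ a ^ (p ^ c + 1) = 1 := by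
    intro a
    rw [← (algebraMap F E).injective.eq_iff, map_one, FiniteField.algebraMap_norm_eq_pow]
    have : (Nat.card E - 1) / (Nat.card F - 1) = p ^ c + 1 := by
      rw [cardE, cardF, show p ^ c * p ^ c - 1 = (p ^ c + 1) * (p ^ c - 1) by
        simpa [pow_two] using Nat.sq_sub_sq (p ^ c) 1]
      exact Nat.mul_div_cancel _ (by omega)
    rw [this]
  have hroots : ∀ a : E, a ^ (p ^ c + 1) = 1 → ∃ r : R, u r = a := by
    intro a ha
    cases nonempty_fintype R
    have h1 : Finset.univ.image u ⊆ (Polynomial.nthRoots (p ^ c + 1) (1 : E)).toFinset := by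
      intro x hx
      obtain ⟨r, _, rfl⟩ := Finset.mem_image.mp hx
      rw [Multiset.mem_toFinset, Polynomial.mem_nthRoots (by omega)]
      exact u_pow r
    have h2 : (Polynomial.nthRoots (p ^ c + 1) (1 : E)).toFinset.card ≤
        (Finset.univ.image u).card := by
      rw [Finset.card_image_of_injective _ u_inj, Finset.card_univ, ← Nat.card_eq_fintype_card,
        cardR]
      exact (Multiset.toFinset_card_le _).trans (Polynomial.card_nthRoots _ _)
    have h3 : a ∈ (Polynomial.nthRoots (p ^ c + 1) (1 : E)).toFinset := by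
      rw [Multiset.mem_toFinset, Polynomial.mem_nthRoots (by omega)]; exact ha
    rw [← Finset.eq_of_subset_of_card_le h1 h2] at h3
    obtain ⟨r, _, hr⟩ := Finset.mem_image.mp h3
    exact ⟨r, hr⟩
  refine ⟨E, inferInstance, inferInstance, F, e, hfin, fun f => ?_⟩
  constructor
  · rintro ⟨k, hk⟩
    by_cases hkM : IsM V k
    · refine ⟨u ⟨k * h, memR.mpr (mul_not_isM hA hR hkM hh)⟩, φ0,
        (hnorm _).mpr (u_pow _), fun v => ?_⟩
      rw [← hk, φ0ap, ← eh, ← er]
      change e (k • v) = e ((k * h) • h • v)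
      rw [← mul_smul, mul_assoc, hA.mul_self hh, mul_one]
    · exact ⟨u ⟨k, memR.mpr hkM⟩, 1, (hnorm _).mpr (u_pow _), fun v => by
        rw [← hk]; exact er ⟨k, memR.mpr hkM⟩ v⟩
  · rintro ⟨a, φ, ha, hf⟩
    obtain ⟨r, rfl⟩ := hroots a ((hnorm a).mp ha)
    rcases autE φ with rfl | rfl
    · exact ⟨r.1, fun v => e.injective (by rw [hf, er]; rfl)⟩
    · exact ⟨r.1 * h, fun v => e.injective (by rw [hf, mul_smul, er, eh, φ0ap])⟩

end Affine

/-- The classification of affine binary stabilisers. -/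
theorem classify [Nontrivial V] {p : ℕ} (hA : Affine H V p) :
    (Nat.card H ≤ 2 ∧ (Nat.card V).Prime) ∨
    ∃ (E : Type) (_ : Field E) (_ : Fintype E) (F : Subfield E) (e : V ≃+ E),
      Module.finrank F E = 2 ∧ ∀ f : V → V, (∃ k : H, ∀ v, k • v = f v) ↔
        ∃ (a : E) (φ : E ≃ₐ[F] E), Algebra.norm F a = 1 ∧ ∀ v, e (f v) = a * φ (e v) := by
  by_cases hall : ∀ h : H, IsM V h → (fix h : AddSubgroup V) = ⊥
  · exact Or.inl (hA.semireg hall)
  push Not at hall
  obtain ⟨h, hh, hf⟩ := hall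
  right
  obtain ⟨q, hR⟩ : ∃ q : ℕ, Rich H (⊤ : AddSubgroup V) ⊥ q := by
    by_cases hp : p = 2
    · subst hp; exact hA.two_top hh
    · exact hA.odd_top hp hh hf
  exact hA.field_model hR hh

end Cfsg.Agent.H52.Binary
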