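import Cfsg.Agent.H52.Binary.Common

/-!
Odd characteristic: two maximal elements with equal lines span a plane.
-/

set_option autoImplicit false
set_option linter.unusedSectionVars false

namespace Cfsg.Agent.H52.Binary

variable {H V : Type*} [Group H] [AddCommGroup V] [DistribMulAction H V] [Finite H] [Finite V]

namespace Affine

variable {p : ℕ} (hA : Affine H V p) (hp : p ≠ 2)

include hA hp

theorem half_add (d : V) : ((p + 1) / 2) • d + ((p + 1) / 2) • d = d := by
  rw [← add_nsmul, show (p + 1) / 2 + (p + 1) / 2 = p + 1 by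
    obtain ⟨k, hk⟩ := hA.pp.odd_of_ne_two hp; omega, add_nsmul, hA.exp, one_nsmul, zero_add]

theorem eq_zero_of_add_self {u : V} (h : u + u = 0) : u = 0 := by
  conv_lhs => rw [← half_add hA hp u]
  rw [← nsmul_add, h, nsmul_zero]

theorem eq_zero_of_neg {u : V} (h : u = -u) : u = 0 :=
  eq_zero_of_add_self hA hp (eq_neg_iff_add_eq_zero.mp h)

theorem fix_dsp_eq_zero {h : H} (hh : IsM V h) {w : V} (hw : w ∈ (dsp h : AddSubgroup V))
    (e : h • w = w) : w = 0 :=
  eq_zero_of_neg hA hp (by rw [← hA.smul_dsp hh hw, e])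

theorem mem_dsp_of_neg {h : H} {w : V} (e : h • w = -w) : w ∈ (dsp h : AddSubgroup V) := by
  have h1 : -(w + w) ∈ (dsp h : AddSubgroup V) := by
    have := dis_mem h w
    rw [dis_apply, e] at this
    rwa [neg_add']
  rw [← half_add hA hp w, ← nsmul_add]
  exact (dsp h).nsmul_mem (by simpa using (dsp h).neg_mem h1) _

theorem commute_le {h m : H} (hh : IsM V h) (hm : IsM V m) (hne : h ≠ m)
    (hc : h * m = m * h) : (dsp m : AddSubgroup V) ≤ fix h := by
  rcases hA.pm_on_dsp hm hc with e | e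
  · exact fun w hw => mem_fix.mpr (e w hw)
  · exfalso
    obtain ⟨d, hd, hd0⟩ := hA.dsp_ne_bot hm
    exact hne (hA.eq_of_common hh hm hd0 (mem_dsp_of_neg hA hp (e d hd)) hd)

/-- The order of the point stabiliser is prime to `p`. -/
theorem not_dvd_card : ¬ p ∣ Nat.card H := by
  intro hdvd
  have : Fact p.Prime := ⟨hA.pp⟩
  obtain ⟨t, ht⟩ := exists_prime_orderOf_dvd_card' p hdvd
  let P := Subgroup.zpowers t
  have hP : IsPGroup p P :=
    IsPGroup.of_card (n := 1) (by rw [Nat.card_zpowers, ht, pow_one])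
  have hinv : ∀ k : P, ∀ d ∈ (dsp t : AddSubgroup V), (k : H) • d ∈ (dsp t : AddSubgroup V) := by
    intro k d hd
    refine smul_mem_dsp_of_commute hA ?_ hd
    obtain ⟨i, hi⟩ := Subgroup.mem_zpowers_iff.mp k.2
    rw [← hi]
    exact ((Commute.refl t).zpow_left i).eq
  let act : MulAction P (dsp t : AddSubgroup V) :=
    { smul := fun k d => ⟨(k : H) • (d : V), hinv k d d.2⟩
      one_smul := fun d => Subtype.ext (one_smul H (d : V))
      mul_smul := fun k l d => Subtype.ext (mul_smul (k : H) (l : H) (d : V)) }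
  have ht1 : t ≠ 1 := fun e => hA.pp.one_lt.ne' (by rw [← ht, e, orderOf_one])
  have hne : Nontrivial (dsp t : AddSubgroup V) := by
    by_contra hn
    rw [not_nontrivial_iff_subsingleton] at hn
    refine ht1 (hA.faith t fun v => ?_)
    have := congrArg Subtype.val (hn.elim ⟨_, dis_mem t v⟩ 0)
    simpa [dis_apply, sub_eq_zero] using this
  have hcard : p ∣ Nat.card (dsp t : AddSubgroup V) := by
    obtain ⟨d, hd⟩ := exists_ne (0 : (dsp t : AddSubgroup V))
    have := addOrderOf_dvd_natCard d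
    rwa [addOrderOf_eq_prime (Subtype.ext (hA.exp _)) hd] at this
  have h0 : (0 : (dsp t : AddSubgroup V)) ∈ MulAction.fixedPoints P (dsp t : AddSubgroup V) :=
    fun k => Subtype.ext (smul_zero (k : H))
  obtain ⟨b, hb, hb0⟩ := hP.exists_fixed_point_of_prime_dvd_card_of_fixed_point _ hcard h0
  have htb : t • (b : V) = b := congrArg Subtype.val (hb ⟨t, Subgroup.mem_zpowers t⟩)
  obtain ⟨x, hx⟩ := mem_dsp.mp b.2
  have h1 := mem_fix.mp (hA.fix_le_gd hx (mem_fix.mpr htb))
  rw [hA.gd_neg ⟨t, hx⟩] at h1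
  exact hb0 (Subtype.ext (eq_zero_of_neg hA hp h1.symm).symm)

/-- Averaging: nothing fixed by a subgroup is a sum of its displacements. -/
theorem avg_zero (L : Subgroup H) {v : V} (hfix : ∀ l ∈ L, l • v = v)
    (hv : v ∈ AddSubgroup.closure {w : V | ∃ l ∈ L, w ∈ (dsp l : AddSubgroup V)}) : v = 0 := by
  classical
  cases nonempty_fintype L
  let S : V →+ V := AddMonoidHom.mk' (fun w => ∑ l : L, (l : H) • w)
    (fun a b => by simp only [smul_add, Finset.sum_add_distrib])
  have hS : AddSubgroup.closure {w : V | ∃ l ∈ L, w ∈ (dsp l : AddSubgroup V)} ≤ S.ker := by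
    rw [AddSubgroup.closure_le]
    rintro w ⟨l, hl, hw⟩
    obtain ⟨x, hx⟩ := mem_dsp.mp hw
    have hS2 : S (l • x) = S x := by
      simp only [S, AddMonoidHom.mk'_apply, ← mul_smul]
      exact Fintype.sum_equiv (Equiv.mulRight (⟨l, hl⟩ : L)) _ _ (fun i => rfl)
    rw [hx, map_add, add_eq_left] at hS2
    exact hS2
  have h1 : S v = 0 := hS hv
  have h2 : Fintype.card L • v = 0 := by
    rw [← h1]
    simp only [S, AddMonoidHom.mk'_apply]
    rw [Finset.sum_congr rfl (fun (i : L) _ => hfix i i.2), Finset.sum_const, Finset.card_univ]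
  by_contra h0
  have : Fact p.Prime := ⟨hA.pp⟩
  have := addOrderOf_dvd_of_nsmul_eq_zero h2
  rw [addOrderOf_eq_prime (hA.exp v) h0, ← Nat.card_eq_fintype_card] at this
  exact not_dvd_card hA hp (this.trans (Subgroup.card_subgroup_dvd_card L))

theorem pair_disj {a b : H} {v : V} (ha : a • v = v) (hb : b • v = v)
    (hv : ∃ x ∈ (dsp a : AddSubgroup V), ∃ y ∈ (dsp b : AddSubgroup V), x + y = v) : v = 0 := by
  refine avg_zero hA hp (Subgroup.closure {a, b}) (v := v) ?_ ?_
  · intro l hl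
    have hle : Subgroup.closure {a, b} ≤ MulAction.stabilizer H v := by
      rw [Subgroup.closure_le]
      rintro k (rfl | rfl)
      · exact ha
      · exact hb
    exact hle hl
  · obtain ⟨x, hx, y, hy, rfl⟩ := hv
    exact AddSubgroup.add_mem _
      (AddSubgroup.subset_closure ⟨a, Subgroup.subset_closure (by simp), hx⟩)
      (AddSubgroup.subset_closure ⟨b, Subgroup.subset_closure (by simp), hy⟩)

/-- Two maximal elements with lines of equal size span a plane. -/
theorem plane_of_pair {h h' : H} {q : ℕ} (hh : IsM V h) (hh' : IsM V h') (hne : h ≠ h')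
    (hq : Nat.card (dsp h : AddSubgroup V) = q) (hq' : Nat.card (dsp h' : AddSubgroup V) = q) :
    Plane H (dsp h ⊔ dsp h' : AddSubgroup V) (fix h ⊓ fix h') q := by
  set W : AddSubgroup V := dsp h ⊔ dsp h' with hW
  set Z : AddSubgroup V := fix h ⊓ fix h' with hZ
  have hDD : ∀ v ∈ (dsp h : AddSubgroup V), v ∈ (dsp h' : AddSubgroup V) → v = 0 := by
    intro v hv hv'
    by_contra h0
    exact hne (hA.eq_of_common hh hh' h0 hv hv')
  have cardW : Nat.card W = q * q := by
    have := card_eq_mul_of (W := W) le_sup_left le_sup_right hDD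
      (fun w hw => AddSubgroup.mem_sup.mp hw)
    rwa [hq, hq'] at this
  have inf : ∀ v ∈ W, v ∈ Z → v = 0 := fun v hv hvz =>
    pair_disj hA hp (mem_fix.mp hvz.1) (mem_fix.mp hvz.2) (AddSubgroup.mem_sup.mp hv)
  have cardV : Nat.card V ≤ Nat.card W * Nat.card Z := by
    let φ : V →+ ↥(dsp h : AddSubgroup V) × ↥(dsp h' : AddSubgroup V) :=
      AddMonoidHom.mk' (fun v => (⟨dis h v, dis_mem h v⟩, ⟨dis h' v, dis_mem h' v⟩))
        (fun a b => Prod.ext (Subtype.ext (map_add _ a b)) (Subtype.ext (map_add _ a b)))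
    have hker : φ.ker ≤ Z := by
      intro v hv
      have h1 : (⟨dis h v, dis_mem h v⟩, ⟨dis h' v, dis_mem h' v⟩) =
          (0 : ↥(dsp h : AddSubgroup V) × ↥(dsp h' : AddSubgroup V)) := hv
      exact ⟨AddMonoidHom.mem_ker.mpr (congrArg (fun z => ((z.1 : _) : V)) h1),
        AddMonoidHom.mem_ker.mpr (congrArg (fun z => ((z.2 : _) : V)) h1)⟩
    rw [AddSubgroup.card_eq_card_quotient_mul_card_addSubgroup φ.ker]
    refine Nat.mul_le_mul ?_ (AddSubgroup.card_le_of_le hker)
    rw [Nat.card_congr (QuotientAddGroup.quotientKerEquivRange φ).toEquiv, cardW]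
    refine (Nat.card_le_card_of_injective (fun x : φ.range => (x : ↥(dsp h : AddSubgroup V) × ↥(dsp h' : AddSubgroup V))) Subtype.val_injective).trans ?_
    rw [Nat.card_prod, hq, hq']
  have sup : ∀ v : V, ∃ w ∈ W, ∃ z ∈ Z, w + z = v := fun v =>
    exists_add_of_card (W := ⊤) le_top le_top inf (by rwa [AddSubgroup.card_top])
      (AddSubgroup.mem_top v)
  have eV : Nat.card V = Nat.card W * Nat.card Z := by
    have := card_eq_mul_of (W := (⊤ : AddSubgroup V)) le_top le_top inf (fun v _ => sup v)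
    rwa [AddSubgroup.card_top] at this
  have fh : Fixes Z h := fun z hz => mem_fix.mp hz.1
  have fh' : Fixes Z h' := fun z hz => mem_fix.mp hz.2
  have stable : ∀ k : H, Fixes Z k → (dsp k : AddSubgroup V) ≤ W := by
    intro k hk v hv
    let Y : Subgroup H :=
      { carrier := {l | Fixes Z l}
        one_mem' := Fixes.one
        mul_mem' := fun ha hb => Fixes.mul ha hb
        inv_mem' := fun ha => Fixes.inv ha }
    obtain ⟨w, hw, z, hz, rfl⟩ := sup v
    have hz0 : z = 0 := by
      refine avg_zero hA hp Y (fun l hl => (hl : Fixes Z l) z hz) ?_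
      set T := AddSubgroup.closure {w : V | ∃ l ∈ Y, w ∈ (dsp l : AddSubgroup V)}
      have h1 : w + z ∈ T := AddSubgroup.subset_closure ⟨k, hk, hv⟩
      have h2 : W ≤ T := sup_le (fun x hx => AddSubgroup.subset_closure ⟨h, fh, hx⟩)
        (fun x hx => AddSubgroup.subset_closure ⟨h', fh', hx⟩)
      have := T.sub_mem h1 (h2 hw)
      rwa [add_sub_cancel_left] at this
    rw [hz0, add_zero]
    exact hw
  have cardD : ∀ m : H, Mem Z m → Nat.card (dsp m : AddSubgroup V) = q := by
    intro m hm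
    by_cases c1 : h * m = m * h
    swap
    · rw [← hA.card_dsp_of_not_commute hh hm.1 c1, hq]
    by_cases c2 : h' * m = m * h'
    swap
    · rw [← hA.card_dsp_of_not_commute hh' hm.1 c2, hq']
    by_cases e1 : h = m
    · rw [← e1, hq]
    by_cases e2 : h' = m
    · rw [← e2, hq']
    obtain ⟨d, hd, hd0⟩ := hA.dsp_ne_bot hm.1
    exact absurd (inf d (stable m hm.2 hd)
      ⟨commute_le hA hp hh hm.1 e1 c1 hd, commute_le hA hp hh' hm.1 e2 c2 hd⟩) hd0
  have cardK : ∀ m : H, Mem Z m → Nat.card ↥((fix m : AddSubgroup V) ⊓ W) = q := by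
    intro m hm
    have e : Nat.card (fix m : AddSubgroup V) =
        Nat.card ↥((fix m : AddSubgroup V) ⊓ W) * Nat.card Z := by
      refine card_eq_mul_of inf_le_left (fun z hz => mem_fix.mpr (hm.2 z hz))
        (fun v hv hvz => inf v hv.2 hvz) ?_
      intro v hv
      obtain ⟨w, hw, z, hz, rfl⟩ := sup v
      refine ⟨w, ⟨?_, hw⟩, z, hz, rfl⟩
      have hv' := mem_fix.mp hv
      rw [smul_add, hm.2 z hz, add_left_inj] at hv'
      exact mem_fix.mpr hv'
    have h1 := card_fix_mul_dsp (V := V) m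
    rw [cardD m hm, e, eV, cardW] at h1
    have hz : 0 < Nat.card Z := Nat.card_pos
    have hq0 : 0 < q := hq ▸ Nat.card_pos
    have h2 : Nat.card ↥((fix m : AddSubgroup V) ⊓ W) * (Nat.card Z * q) = q * (Nat.card Z * q) := by
      rw [← mul_assoc, h1]; ring
    exact Nat.eq_of_mul_eq_mul_right (Nat.mul_pos hz hq0) h2
  have disj : ∀ m m' : H, Mem Z m → Mem Z m' → m ≠ m' →
      ∀ w ∈ W, m • w = w → m' • w = w → w = 0 := by
    intro m m' hm hm' hmm w hw e e'
    refine pair_disj hA hp e e' (exists_add_of_card (stable m hm.2) (stable m' hm'.2) ?_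
      (by rw [cardD m hm, cardD m' hm', cardW]) hw)
    intro v hv hv'
    by_contra h0
    exact hmm (hA.eq_of_common hm.1 hm'.1 h0 hv hv')
  refine ⟨inf, sup, cardW, stable, cardD, cardK, disj, ?_⟩
  intro k hk hk1 w hw hw0 hkw
  obtain ⟨m, hmM, hle⟩ := exists_isM_above (V := V) hk1
  have hm : Mem Z m := ⟨hmM, fun z hz => mem_fix.mp (hle (mem_fix.mpr (hk z hz)))⟩
  have hmw : m • w = w := mem_fix.mp (hle (mem_fix.mpr hkw))
  have hkm : k * m * k⁻¹ = m := by
    by_contra hne'
    refine hw0 (disj _ _ (hm.conj hk) hm hne' w hw ?_ hmw)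
    rw [mul_smul, mul_smul, inv_smul_eq_iff.mpr hkw.symm, hmw, hkw]
  have hc : k * m = m * k := by
    calc k * m = k * m * k⁻¹ * k := by group
      _ = m * k := by rw [hkm]
  obtain ⟨d, hd, hd0⟩ := hA.dsp_ne_bot hmM
  rcases hA.pm_on_dsp hmM hc with e | e
  · exact absurd (fix_dsp_eq_zero hA hp hmM hd (mem_fix.mp (hle (mem_fix.mpr (e d hd))))) hd0
  by_cases hl : k * m = 1
  · rw [mul_eq_one_iff_eq_inv, hA.inv_eq hmM] at hl
    rwa [hl]
  exfalso
  obtain ⟨m', hm'M, hle'⟩ := exists_isM_above (V := V) hl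
  have hm' : Mem Z m' :=
    ⟨hm'M, fun z hz => mem_fix.mp (hle' (mem_fix.mpr ((hk.mul hm.2) z hz)))⟩
  have hm'w : m' • w = w := mem_fix.mp (hle' (mem_fix.mpr (by rw [mul_smul, hmw, hkw])))
  have heq : m' = m := by
    by_contra hne'
    exact hw0 (disj _ _ hm' hm hne' w hw hm'w hmw)
  refine hd0 (fix_dsp_eq_zero hA hp hmM hd ?_)
  rw [← heq]
  refine mem_fix.mp (hle' (mem_fix.mpr ?_))
  rw [mul_smul, hA.smul_dsp hmM hd, smul_neg, e d hd, neg_neg]

/-- In odd characteristic such a plane has `q + 1` members. -/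
theorem rich_of_pair {h h' : H} {q : ℕ} (hh : IsM V h) (hh' : IsM V h') (hne : h ≠ h')
    (hq : Nat.card (dsp h : AddSubgroup V) = q) (hq' : Nat.card (dsp h' : AddSubgroup V) = q)
    (hor : h * h' ≠ h' * h ∨ ∃ k : H, h' = k * h * k⁻¹) :
    Rich H (dsp h ⊔ dsp h' : AddSubgroup V) (fix h ⊓ fix h') q := by
  have hP := plane_of_pair hA hp hh hh' hne hq hq'
  set Z : AddSubgroup V := fix h ⊓ fix h' with hZ
  have mh : Mem Z h := ⟨hh, fun z hz => mem_fix.mp hz.1⟩
  have mh' : Mem Z h' := ⟨hh', fun z hz => mem_fix.mp hz.2⟩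
  refine (hP.count' hA mh mh' hne).resolve_left fun hall => ?_
  by_cases hc : h * h' = h' * h
  swap
  · rcases hall _ (mh'.conj mh.2) with e | e
    · have : h' = h := by
        calc h' = h⁻¹ * (h * h' * h⁻¹) * h := by group
          _ = h := by rw [e]; group
      exact hne this.symm
    · exact hc (by
        calc h * h' = h * h' * h⁻¹ * h := by group
          _ = h' * h := by rw [e])
  obtain ⟨k, rfl⟩ := hor.resolve_left (fun c => c hc)
  have hD' : (dsp (k * h * k⁻¹) : AddSubgroup V) ≤ fix h := commute_le hA hp hh hh' hne hc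
  have hD : (dsp h : AddSubgroup V) ≤ fix (k * h * k⁻¹) :=
    commute_le hA hp hh' hh (Ne.symm hne) hc.symm
  obtain ⟨u, hu, hu0⟩ := hA.dsp_ne_bot hh
  have hy : k • u ∈ (dsp (k * h * k⁻¹) : AddSubgroup V) := smul_mem_dsp_conj hu
  set y := k • u with hy'
  have hhy : h • y = y := mem_fix.mp (hD' hy)
  have hh'y : (k * h * k⁻¹) • y = -y := hA.smul_dsp hh' hy
  set d := u - y with hd
  have hyp : y ∈ pts H d := ⟨k⁻¹, by rw [hy', inv_smul_smul, hd]; abel⟩
  have hd0 : d ≠ 0 := fun e => hu0 (by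
    by_contra h0
    have he : u = y := sub_eq_zero.mp e
    exact hne (hA.eq_of_common hh hh' h0 hu (by rw [he]; exact hy)))
  let c := (p + 1) / 2
  have hxp : ∀ z ∈ Z, c • (-d) + z ∈ pts H d := by
    intro z hz
    refine ⟨h * (k * h * k⁻¹), ?_⟩
    have e1 : (h * (k * h * k⁻¹)) • d = -d := by
      rw [hd, smul_sub, mul_smul h (k * h * k⁻¹) u, mul_smul h (k * h * k⁻¹) y,
        mem_fix.mp (hD hu), hh'y, hA.smul_dsp hh hu,
        smul_neg, hhy]
      abel
    rw [smul_add, (mh.2.mul mh'.2) z hz, smul_comm, smul_neg, e1, neg_neg]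
    have e2 : c • (-d) + c • (-d) = -d := half_add hA hp (-d)
    rw [show c • d = -(c • (-d)) by rw [smul_neg, neg_neg],
      show -(c • (-d)) = c • (-d) - (c • (-d) + c • (-d)) by abel, e2]
    abel
  have hgy : hA.gd d • y = u := by rw [hA.gd_spec hyp, hd]; abel
  have hg : Fixes Z (hA.gd d) := by
    intro z hz
    have h1 := hA.sub_mem_fix_gd hyp (hxp z hz)
    have h2 := hA.sub_mem_fix_gd hyp (hxp 0 Z.zero_mem)
    have h3 := (fix (hA.gd d) : AddSubgroup V).sub_mem h2 h1
    rwa [show y - (c • (-d) + 0) - (y - (c • (-d) + z)) = z by abel, mem_fix] at h3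
  have key : u = y ∨ u = -y := by
    by_cases hm : Mem Z (hA.gd d)
    · rcases hall _ hm with e | e
      · exact Or.inl (by rw [← hgy, e, hhy])
      · exact Or.inr (by rw [← hgy, e, hh'y])
    · have hgg : hA.gd d = h * (h * hA.gd d) := by rw [← mul_assoc, hA.mul_self hh, one_mul]
      rcases hall _ (hP.mul_mem_of_not_mem hA mh hg hm) with e | e
      · rw [e, hA.mul_self hh] at hgg
        exact Or.inl (by rw [← hgy, hgg, one_smul])
      · rw [e] at hgg
        exact Or.inr (by rw [← hgy, hgg, mul_smul, hh'y, smul_neg, hhy])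
  rcases key with e | e
  · exact hne (hA.eq_of_common hh hh' hu0 hu (by rw [e]; exact hy))
  · exact hne (hA.eq_of_common hh hh' hu0 hu (by rw [e]; exact AddSubgroup.neg_mem _ hy))

end Affine

end Cfsg.Agent.H52.Binary
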