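import Cfsg.Agent.H52.Binary.Odd

/-!
Odd characteristic: the plane is the whole module.
-/

set_option autoImplicit false
set_option linter.unusedSectionVars false

namespace Cfsg.Agent.H52.Binary

variable {H V : Type*} [Group H] [AddCommGroup V] [DistribMulAction H V] [Finite H] [Finite V]

namespace Affine

variable {p : ℕ} (hA : Affine H V p) (hp : p ≠ 2) {W Z : AddSubgroup V} {q : ℕ}

include hA hp

theorem dsp_eq_perp (hR : Rich H W Z q) {L L' : H} (hL : Mem Z L) (hL' : Mem Z L')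
    (hne : L ≠ L') (hc : L * L' = L' * L) :
    (dsp L' : AddSubgroup V) = fix L ⊓ W := by
  refine AddSubgroup.eq_of_le_of_card_ge ?_ (by rw [hR.cardK L hL, hR.cardD L' hL'])
  exact le_inf (commute_le hA hp hL.1 hL'.1 hne hc) (hR.stable L' hL'.2)

theorem perp_unique (hR : Rich H W Z q) {L L' L'' : H} (hL : Mem Z L) (hL' : Mem Z L')
    (hL'' : Mem Z L'') (h1 : L ≠ L') (h2 : L ≠ L'') (c1 : L * L' = L' * L)
    (c2 : L * L'' = L'' * L) : L' = L'' := by
  obtain ⟨d, hd, hd0⟩ := hA.dsp_ne_bot hL'.1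
  refine hA.eq_of_common hL'.1 hL''.1 hd0 hd ?_
  rwa [dsp_eq_perp hA hp hR hL hL'' h2 c2, ← dsp_eq_perp hA hp hR hL hL' h1 c1]

theorem exists_perp (hR : Rich H W Z q) {L : H} (hL : Mem Z L) :
    ∃ L' : H, Mem Z L' ∧ L ≠ L' ∧ L * L' = L' * L := by
  have hq := hR.one_lt_q hA hL
  have : Nontrivial ↥((fix L : AddSubgroup V) ⊓ W) := by
    rw [← Finite.one_lt_card_iff_nontrivial, hR.cardK L hL]; exact hq
  obtain ⟨⟨w, hwf, hwW⟩, hw0⟩ := exists_ne (0 : ↥((fix L : AddSubgroup V) ⊓ W))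
  have hw : w ≠ 0 := fun e => hw0 (Subtype.ext e)
  obtain ⟨L', hL', hwD⟩ := hR.coverD w hwW hw
  refine ⟨L', hL', fun e => hw ?_, (hA.orth_of_fixed hL.1 hL'.1 hw hwD (mem_fix.mp hwf)).1⟩
  rw [← e] at hwD
  exact fix_dsp_eq_zero hA hp hL.1 hwD (mem_fix.mp hwf)

theorem exists_noncomm (hR : Rich H W Z q) {m : H} (hm : Mem Z m) :
    ∃ m' : H, Mem Z m' ∧ m * m' ≠ m' * m := by
  classical
  cases nonempty_fintype H
  by_contra hc
  push Not at hc
  have hq := hR.one_lt_q hA hm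
  have hS : (Finset.univ.filter fun k : H => Mem Z k).card = q + 1 := by
    rw [← hR.num, Nat.card_eq_fintype_card, Fintype.card_subtype]
  have h2 : 1 < ((Finset.univ.filter fun k : H => Mem Z k).erase m).card := by
    rw [Finset.card_erase_of_mem (by simpa using hm), hS]; omega
  obtain ⟨a, ha, b, hb, hab⟩ := Finset.one_lt_card.mp h2
  simp only [Finset.mem_erase, Finset.mem_filter, Finset.mem_univ, true_and] at ha hb
  exact hab (perp_unique hA hp hR hm ha.2 hb.2 (Ne.symm ha.1) (Ne.symm hb.1)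
    (hc a ha.2) (hc b hb.2))

/-- The candidate second coordinates fill more than half of the perpendicular line. -/
theorem half_set (hR : Rich H W Z q) {L L' : H} (hL : Mem Z L) (hL' : Mem Z L')
    (hne : L ≠ L') (hc : L * L' = L' * L) {y : V} (hy : y ∈ (dsp L' : AddSubgroup V))
    (hy0 : y ≠ 0) :
    ∃ S : Finset V, q + 1 ≤ 2 * S.card ∧ ∀ y1 ∈ S, y1 ∈ (dsp L' : AddSubgroup V) ∧
      ∃ x ∈ (dsp L : AddSubgroup V), ∃ m : H, Mem Z m ∧ x + y ∈ (dsp m : AddSubgroup V) ∧
        m • (x + y1) = x + y1 := by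
  classical
  cases nonempty_fintype V
  have eL' := dsp_eq_perp hA hp hR hL hL' hne hc
  have eL := dsp_eq_perp hA hp hR hL' hL (Ne.symm hne) hc.symm
  have hyW : y ∈ W := hR.stable L' hL'.2 hy
  have hex : ∀ x ∈ (dsp L : AddSubgroup V), ∃ m : H, ∃ y1 : V, Mem Z m ∧
      y1 ∈ (dsp L' : AddSubgroup V) ∧ x + y ∈ (dsp m : AddSubgroup V) ∧
      m • (x + y1) = x + y1 := by
    intro x hx
    have hxW : x ∈ W := hR.stable L hL.2 hx
    have hxy : x + y ≠ 0 := fun e => hne (hA.eq_of_common hL.1 hL'.1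
      (fun c => hy0 (by rw [c, zero_add] at e; exact e)) hx
      (by rw [eq_neg_of_add_eq_zero_left e]; exact AddSubgroup.neg_mem _ hy))
    obtain ⟨m, hm, hmD⟩ := hR.coverD (x + y) (W.add_mem hxW hyW) hxy
    have hinf : ∀ v ∈ (fix m : AddSubgroup V) ⊓ W, v ∈ (dsp L' : AddSubgroup V) → v = 0 := by
      intro v hv hv'
      by_contra h0
      obtain ⟨hcm, _⟩ := hA.orth_of_fixed hm.1 hL'.1 h0 hv' (mem_fix.mp hv.1)
      by_cases e : L' = m
      · rw [← e] at hv
        exact h0 (fix_dsp_eq_zero hA hp hL'.1 hv' (mem_fix.mp hv.1))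
      have hmL := perp_unique hA hp hR hL' hm hL e (Ne.symm hne) hcm.symm hc.symm
      rw [hmL] at hmD
      have hyL : y ∈ (dsp L : AddSubgroup V) := by
        have := (dsp L).sub_mem hmD hx
        rwa [add_sub_cancel_left] at this
      exact hne (hA.eq_of_common hL.1 hL'.1 hy0 hyL hy)
    obtain ⟨a, ha, b, hb, e⟩ := exists_add_of_card inf_le_right (hR.stable L' hL'.2) hinf
      (by rw [hR.cardK m hm, hR.cardD L' hL', hR.cardW]) hxW
    refine ⟨m, -b, hm, AddSubgroup.neg_mem _ hb, hmD, ?_⟩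
    rw [show x + -b = a by rw [← e]; abel]
    exact mem_fix.mp ha.1
  choose! m φ hm hφ hD hK using hex
  set T := Finset.univ.filter fun v : V => v ∈ (dsp L : AddSubgroup V) with hT
  have hfib : ∀ x ∈ T, ∀ x' ∈ T, φ x = φ x' → x' = x ∨ x' = -x := by
    intro x hx x' hx' e
    simp only [hT, Finset.mem_filter, Finset.mem_univ, true_and] at hx hx'
    set D := (x' - x) + (x' - x) with hDdef
    have e1 : m x • (x + y) = -(x + y) := hA.smul_dsp (hm x hx).1 (hD x hx)
    have e2 : m x' • (x' + y) = -(x' + y) := hA.smul_dsp (hm x' hx').1 (hD x' hx')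
    have f2 := hK x' hx'
    rw [← e] at f2
    have hk : (m x' * m x) • ((x + y) + (x + φ x)) = ((x + y) + (x + φ x)) + D := by
      rw [mul_smul, smul_add (m x), e1, hK x hx,
        show -(x + y) + (x + φ x) = -(x' + y) + (x' + φ x) by abel, smul_add, smul_neg, e2, f2,
        neg_neg, hDdef]
      abel
    by_cases hD0 : D = 0
    · exact Or.inl (sub_eq_zero.mp (eq_zero_of_add_self hA hp hD0))
    right
    have hDL : D ∈ (dsp L : AddSubgroup V) :=
      AddSubgroup.add_mem _ ((dsp L).sub_mem hx' hx) ((dsp L).sub_mem hx' hx)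
    obtain ⟨x0, hx0⟩ := mem_dsp.mp hDL
    have hg := hA.gd_spec (d := D) ⟨_, hk⟩
    rw [← hA.isM_eq_gd hL.1 hD0 hx0] at hg
    have g1 : L • y = y := by
      rw [eL'] at hy
      exact mem_fix.mp hy.1
    have g2 : L • φ x = φ x := by
      have := hφ x hx
      rw [eL'] at this
      exact mem_fix.mp this.1
    rw [smul_add, smul_add, smul_add, hA.smul_dsp hL.1 hx, g1, g2, hDdef] at hg
    have : (x + x') + (x + x') = 0 := by
      have h' := sub_eq_zero.mpr hg.symm
      rw [← h']; abel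
    exact eq_neg_of_add_eq_zero_right (eq_zero_of_add_self hA hp this)
  refine ⟨T.image φ, ?_, ?_⟩
  · have hcT : T.card = q := by
      rw [← hR.cardD L hL, Nat.card_eq_fintype_card, Fintype.card_subtype]
    have h0 : (0 : V) ∈ T := by simp [hT, AddSubgroup.zero_mem]
    have h1 : ((T.erase 0).image φ) ⊆ (T.image φ).erase (φ 0) := by
      intro v hv
      obtain ⟨x, hx, rfl⟩ := Finset.mem_image.mp hv
      obtain ⟨hx0, hxT⟩ := Finset.mem_erase.mp hx
      refine Finset.mem_erase.mpr ⟨fun e => hx0 ?_, Finset.mem_image_of_mem _ hxT⟩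
      rcases hfib 0 h0 x hxT e.symm with c | c
      · exact c
      · simpa using c
    have h2 : (T.erase 0).card ≤ 2 * ((T.erase 0).image φ).card := by
      refine Finset.card_le_mul_card_image _ 2 fun b hb => ?_
      obtain ⟨x, hx, rfl⟩ := Finset.mem_image.mp hb
      refine (Finset.card_le_card (t := {x, -x}) ?_).trans Finset.card_le_two
      intro x' hx'
      obtain ⟨hx'1, hx'2⟩ := Finset.mem_filter.mp hx'
      rcases hfib x (Finset.mem_of_mem_erase hx) x' (Finset.mem_of_mem_erase hx'1) hx'2.symm with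
        c | c <;> simp [c]
    have h3 := Finset.card_le_card h1
    rw [Finset.card_erase_of_mem (Finset.mem_image_of_mem _ h0)] at h3
    rw [Finset.card_erase_of_mem h0, hcT] at h2
    have h4 : 0 < (T.image φ).card := Finset.card_pos.mpr ⟨φ 0, Finset.mem_image_of_mem _ h0⟩
    omega
  · intro y1 hy1
    obtain ⟨x, hx, rfl⟩ := Finset.mem_image.mp hy1
    simp only [hT, Finset.mem_filter, Finset.mem_univ, true_and] at hx
    exact ⟨hφ x hx, x, hx, m x, hm x hx, hD x hx, hK x hx⟩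

/-- No maximal element can be skew to a plane. -/
theorem no_skew (hR : Rich H W Z q) {h'' : H} (hM : IsM V h'')
    (hD : ¬ (dsp h'' : AddSubgroup V) ≤ W) (hK : ¬ W ≤ (fix h'' : AddSubgroup V)) : False := by
  classical
  cases nonempty_fintype V
  have hne : ∀ l : H, Mem Z l → l ≠ h'' := fun l hl e => hD (e ▸ hR.stable l hl.2)
  have hnc : ∃ l : H, Mem Z l ∧ h'' * l ≠ l * h'' := by
    by_contra hc
    push Not at hc
    refine hK fun w hw => ?_
    by_cases h0 : w = 0
    · rw [h0]; exact AddSubgroup.zero_mem _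
    obtain ⟨l, hl, hwl⟩ := hR.coverD w hw h0
    exact commute_le hA hp hM hl.1 (Ne.symm (hne l hl)) (hc l hl) hwl
  obtain ⟨l, hl, hlc⟩ := hnc
  have hcq : Nat.card (dsp h'' : AddSubgroup V) = q := by
    rw [hA.card_dsp_of_not_commute hM hl.1 hlc, hR.cardD l hl]
  have hq := hR.one_lt_q hA hl
  obtain ⟨w0, hw0W, hw00, hw0⟩ : ∃ w ∈ W, w ≠ 0 ∧ h'' • w = w := by
    by_contra hc
    push Not at hc
    have : Nat.card W ≤ Nat.card (dsp h'' : AddSubgroup V) := by
      refine Nat.card_le_card_of_injective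
        (fun w : W => (⟨dis h'' (w : V), dis_mem h'' _⟩ : (dsp h'' : AddSubgroup V))) ?_
      intro a b e
      by_contra hab
      have h0 : dis h'' ((a : V) - b) = 0 := by
        rw [map_sub, sub_eq_zero]; exact congrArg Subtype.val e
      rw [dis_apply, sub_eq_zero] at h0
      exact hc _ (W.sub_mem a.2 b.2) (fun c => hab (Subtype.ext (sub_eq_zero.mp c))) h0
    rw [hR.cardW, hcq] at this
    nlinarith
  obtain ⟨L, hL, hwL⟩ := hR.coverD w0 hw0W hw00
  obtain ⟨hcL, hLK⟩ := hA.orth_of_fixed hM hL.1 hw00 hwL hw0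
  have hKL : (dsp h'' : AddSubgroup V) ≤ fix L :=
    commute_le hA hp hL.1 hM (hne L hL) hcL.symm
  obtain ⟨L', hL', hLL', hcLL'⟩ := exists_perp hA hp hR hL
  have eL' := dsp_eq_perp hA hp hR hL hL' hLL' hcLL'
  have hc' : L' * h'' ≠ h'' * L' := by
    intro c
    refine hK fun w hw => ?_
    obtain ⟨a, ha, b, hb, rfl⟩ := hR.exists_add_dsp hA hL hL' hLL' hw
    exact AddSubgroup.add_mem _ (hLK ha) (commute_le hA hp hM hL'.1 (Ne.symm (hne L' hL')) c.symm hb)
  -- the second plane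
  have hR' := rich_of_pair hA hp hL'.1 hM (hne L' hL') (hR.cardD L' hL') hcq (Or.inl hc')
  set W' : AddSubgroup V := dsp L' ⊔ dsp h'' with hW'
  set Z' : AddSubgroup V := fix L' ⊓ fix h'' with hZ'
  have mL' : Mem Z' L' := ⟨hL'.1, fun z hz => mem_fix.mp hz.1⟩
  obtain ⟨L2, hL2, hL'2, hc2⟩ := exists_perp hA hp hR' mL'
  have e2 := dsp_eq_perp hA hp hR' mL' hL2 hL'2 hc2
  have hW'L : W' ≤ fix L := sup_le (by rw [eL']; exact inf_le_left) hKL
  have hDZ' : (dsp L : AddSubgroup V) ≤ Z' :=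
    le_inf (commute_le hA hp hL'.1 hL.1 (Ne.symm hLL') hcLL'.symm) hLK
  have hDZ : (dsp L2 : AddSubgroup V) ≤ Z := by
    intro z hz
    refine hR.mem_Z_of_fixed hL hL' hLL' (mem_fix.mp (hW'L (hR'.stable L2 hL2.2 hz))) ?_
    rw [e2] at hz
    exact mem_fix.mp hz.1
  obtain ⟨y, hy, hy0⟩ := hA.dsp_ne_bot hL'.1
  obtain ⟨S, hS, hS'⟩ := half_set hA hp hR hL hL' hLL' hcLL' hy hy0
  obtain ⟨T, hT, hT'⟩ := half_set hA hp hR' hL2 mL' (Ne.symm hL'2) hc2.symm hy hy0
  obtain ⟨y1, hy1S, hy2T⟩ : ∃ y1, y1 ∈ S ∧ y - y1 ∈ T := by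
    by_contra hc
    push Not at hc
    have hdis : Disjoint S (T.image (y - ·)) := by
      rw [Finset.disjoint_left]
      intro v hv hv'
      obtain ⟨t, ht, rfl⟩ := Finset.mem_image.mp hv'
      exact hc _ hv (by rwa [sub_sub_cancel])
    have hsub : S ∪ T.image (y - ·) ⊆
        Finset.univ.filter fun v : V => v ∈ (dsp L' : AddSubgroup V) := by
      intro v hv
      rcases Finset.mem_union.mp hv with hv | hv
      · simpa using (hS' v hv).1
      · obtain ⟨t, ht, rfl⟩ := Finset.mem_image.mp hv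
        simpa using (dsp L').sub_mem hy (hT' t ht).1
    have := Finset.card_le_card hsub
    rw [Finset.card_union_of_disjoint hdis, Finset.card_image_of_injective _ sub_right_injective,
      ← Fintype.card_subtype, ← Nat.card_eq_fintype_card, hR.cardD L' hL'] at this
    omega
  obtain ⟨hy1, x, hx, m, hm, hxy, hmx⟩ := hS' y1 hy1S
  obtain ⟨hy2, z, hz, m', hm', hzy, hmz⟩ := hT' _ hy2T
  have a1 : L • x = -x := hA.smul_dsp hL.1 hx
  have a2 : ∀ v ∈ (dsp L' : AddSubgroup V), L • v = v := fun v hv => by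
    rw [eL'] at hv; exact mem_fix.mp hv.1
  have a3 : L • z = z := mem_fix.mp (hW'L (hR'.stable L2 hL2.2 hz))
  have b1 : L2 • z = -z := hA.smul_dsp hL2.1 hz
  have b2 : ∀ v ∈ (dsp L' : AddSubgroup V), L2 • v = v := fun v hv => by
    rw [dsp_eq_perp hA hp hR' hL2 mL' (Ne.symm hL'2) hc2.symm] at hv; exact mem_fix.mp hv.1
  have b3 : L2 • x = x := hL2.2 x (hDZ' hx)
  have c1 : m • z = z := hm.2 z (hDZ hz)
  have c2 : m' • x = x := hm'.2 x (hDZ' hx)
  have c3 : m • (x + y) = -(x + y) := hA.smul_dsp hm.1 hxy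
  have c4 : m' • (z + y) = -(z + y) := hA.smul_dsp hm'.1 hzy
  set u := x + y + z with hu
  have p0 : -u ∈ pts H (u + u) := by
    refine ⟨m * L2, ?_⟩
    rw [mul_smul, hu, neg_add, neg_add, smul_add L2, smul_add L2, smul_neg, smul_neg, smul_neg,
      b1, b3, b2 y hy, neg_neg, smul_add m, ← neg_add, smul_neg, c3, c1]
    abel
  have p1 : -u + (x + y1) ∈ pts H (u + u) := by
    refine ⟨m * L2, ?_⟩
    have : L2 • (-u + (x + y1)) = -(x + y) + (x + y1) + z := by
      rw [hu]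
      simp only [smul_add, smul_neg, b1, b3, b2 y hy, b2 y1 hy1]
      abel
    rw [mul_smul, this, smul_add, smul_add, smul_neg, c3, hmx, c1, hu]
    abel
  have p2 : -u + (z + (y - y1)) ∈ pts H (u + u) := by
    refine ⟨m' * L, ?_⟩
    have : L • (-u + (z + (y - y1))) = -(z + y) + (z + (y - y1)) + x := by
      rw [hu]
      simp only [smul_add, smul_neg, a1, a3, a2 y hy, a2 (y - y1) hy2]
      abel
    rw [mul_smul, this, smul_add, smul_add, smul_neg, c4, hmz, c2, hu]
    abel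
  have f1 := hA.sub_mem_fix_gd p1 p0
  have f2 := hA.sub_mem_fix_gd p2 p0
  have f3 := AddSubgroup.add_mem _ f1 f2
  rw [show -u + (x + y1) - -u + (-u + (z + (y - y1)) - -u) = u by rw [hu]; abel, mem_fix] at f3
  have h4 := hA.gd_spec p0
  rw [smul_neg, f3] at h4
  have hu0 : u = 0 := eq_zero_of_neg hA hp (by
    rw [h4]; abel)
  have hxyW : x + y ∈ W := W.add_mem (hR.stable L hL.2 hx) (hR.stable L' hL'.2 hy)
  have hxy0 : x + y = 0 := by
    refine hR.inf _ hxyW ?_
    rw [eq_neg_of_add_eq_zero_left (hu.symm.trans hu0)]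
    exact AddSubgroup.neg_mem _ (hDZ hz)
  refine hy0 ?_
  by_contra h0
  exact hLL' (hA.eq_of_common hL.1 hL'.1 h0
    (by rw [eq_neg_of_add_eq_zero_right hxy0]; exact AddSubgroup.neg_mem _ hx) hy)

/-- In odd characteristic the plane is everything. -/
theorem plane_eq_top (hR : Rich H W Z q) {h0 : H} (hh0 : Mem Z h0) : W = ⊤ := by
  classical
  by_contra hW
  have hall : ∀ h'' : H, IsM V h'' → (dsp h'' : AddSubgroup V) ≤ W ∨
      W ≤ (fix h'' : AddSubgroup V) := by
    intro h'' hM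
    by_contra hc
    push Not at hc
    exact no_skew hA hp hR hM hc.1 hc.2
  obtain ⟨l0, hl0, hl0c⟩ := exists_noncomm hA hp hR hh0
  have hl0ne : h0 ≠ l0 := fun e => hl0c (by rw [e])
  obtain ⟨k, h, hh, hk⟩ : ∃ k h : H, Mem Z h ∧
      ¬ (dsp (k * h * k⁻¹) : AddSubgroup V) ≤ W := by
    by_contra hc
    push Not at hc
    rcases hA.irr W (fun k w hw => by
      obtain ⟨a, ha, b, hb, rfl⟩ := hR.exists_add_dsp hA hh0 hl0 hl0ne hw
      rw [smul_add]
      exact W.add_mem (hc k h0 hh0 (smul_mem_dsp_conj ha))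
        (hc k l0 hl0 (smul_mem_dsp_conj hb))) with e | e
    · obtain ⟨d, hd, hd0⟩ := hA.dsp_ne_bot hh0.1
      have := hR.stable h0 hh0.2 hd
      rw [e] at this
      exact hd0 (by simpa using this)
    · exact hW e
  set h1 := k * h * k⁻¹ with hh1
  have hM1 : IsM V h1 := hh.1.conj k
  have hWK : W ≤ (fix h1 : AddSubgroup V) := (hall h1 hM1).resolve_left hk
  have hne1 : ∀ l : H, Mem Z l → l ≠ h1 := fun l hl e => hk (e ▸ hR.stable l hl.2)
  have hD1 : ∀ l : H, Mem Z l → (dsp h1 : AddSubgroup V) ≤ fix l := by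
    intro l hl
    obtain ⟨d, hd, hd0⟩ := hA.dsp_ne_bot hl.1
    have := (hA.orth_of_fixed hM1 hl.1 hd0 hd (mem_fix.mp (hWK (hR.stable l hl.2 hd)))).1
    exact commute_le hA hp hl.1 hM1 (hne1 l hl) this.symm
  have hD1Z : (dsp h1 : AddSubgroup V) ≤ Z := fun v hv =>
    hR.mem_Z_of_fixed hh0 hl0 hl0ne (mem_fix.mp (hD1 _ hh0 hv)) (mem_fix.mp (hD1 _ hl0 hv))
  obtain ⟨u, hu, hu0⟩ := hA.dsp_ne_bot hh.1
  set y := k • u with hy'
  have hy : y ∈ (dsp h1 : AddSubgroup V) := smul_mem_dsp_conj hu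
  set d := u - y with hd
  have hyp : y ∈ pts H d := ⟨k⁻¹, by rw [hy', inv_smul_smul, hd]; abel⟩
  set g := hA.gd d with hg
  have hgy : g • y = u := by rw [hg, hA.gd_spec hyp, hd]; abel
  have hgu : g • u = y := by
    have e : u = y + d := by rw [hd]; abel
    rw [hg, e, smul_add, hA.gd_spec hyp, hA.gd_neg hyp]; abel
  have hy0 : y ≠ 0 := fun e => hu0 ((smul_eq_zero_iff_eq k).mp e)
  have hgh : g * h * g⁻¹ = h1 :=
    hA.eq_of_common (hh.1.conj g) hM1 hy0 (by rw [← hgu]; exact smul_mem_dsp_conj hu) hy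
  -- a fixed vector of `g` in the plane
  have hq := hR.one_lt_q hA hh
  have : Nontrivial ↥((fix h : AddSubgroup V) ⊓ W) := by
    rw [← Finite.one_lt_card_iff_nontrivial, hR.cardK h hh]; exact hq
  obtain ⟨⟨a, haK, haW⟩, ha0'⟩ := exists_ne (0 : ↥((fix h : AddSubgroup V) ⊓ W))
  have ha0 : a ≠ 0 := fun e => ha0' (Subtype.ext e)
  have hhy : h • y = y := mem_fix.mp (hD1 h hh hy)
  have hh1u : h1 • u = u := mem_fix.mp (hWK (hR.stable h hh.2 hu))
  have e1 : (h * h1) • d = -d := by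
    rw [hd, smul_sub, mul_smul h h1 u, mul_smul h h1 y, hh1u, hA.smul_dsp hM1 hy, smul_neg,
      hA.smul_dsp hh.1 hu, hhy]
    abel
  let c := (p + 1) / 2
  have e2 : c • (-d) + c • (-d) = -d := half_add hA hp (-d)
  have e3 : (h * h1) • (c • (-d)) = c • (-d) + d := by
    rw [smul_comm, smul_neg, e1, neg_neg, show c • d = -(c • (-d)) by rw [smul_neg, neg_neg],
      show -(c • (-d)) = c • (-d) - (c • (-d) + c • (-d)) by abel, e2]
    abel
  have e4 : (h * h1) • (c • (-d) + a) = c • (-d) + a + d := by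
    rw [smul_add, e3, mul_smul h h1 a, mem_fix.mp (hWK haW), mem_fix.mp haK]
    abel
  have hga : g • a = a := by
    have := hA.sub_mem_fix_gd (d := d) ⟨_, e4⟩ ⟨_, e3⟩
    rw [add_sub_cancel_left, mem_fix] at this
    exact this
  obtain ⟨m, hm, hmc⟩ := exists_noncomm hA hp hR hh
  have hhm : h ≠ m := fun e => hmc (by rw [e])
  have hgD : (dsp (g * m * g⁻¹) : AddSubgroup V) ≤ Z := by
    have hM' := hm.1.conj g
    have hnc : h1 * (g * m * g⁻¹) ≠ g * m * g⁻¹ * h1 := by
      rw [← hgh]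
      intro e
      exact hmc (by
        calc h * m = g⁻¹ * (g * h * g⁻¹ * (g * m * g⁻¹)) * g := by group
          _ = m * h := by rw [e]; group)
    obtain ⟨d', hd', hd'0⟩ := hA.dsp_ne_bot hM'
    rcases hall _ hM' with c | c
    · exact absurd (hA.orth_of_fixed hM1 hM' hd'0 hd' (mem_fix.mp (hWK (c hd')))).1 hnc
    · intro v hv
      have key : ∀ l : H, Mem Z l → l • v = v := by
        intro l hl
        obtain ⟨e, he, he0⟩ := hA.dsp_ne_bot hl.1
        have hfe := mem_fix.mp (c (hR.stable l hl.2 he))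
        have hcl := (hA.orth_of_fixed hM' hl.1 he0 he hfe).1
        refine mem_fix.mp (commute_le hA hp hl.1 hM' (fun q => he0 ?_) hcl.symm hv)
        rw [← q] at hfe
        exact fix_dsp_eq_zero hA hp hl.1 he hfe
      exact hR.mem_Z_of_fixed hh0 hl0 hl0ne (key _ hh0) (key _ hl0)
  obtain ⟨b, hb, b', hb', e⟩ := hR.exists_add_dsp hA hh hm hhm haW
  refine ha0 (hR.inf a haW ?_)
  rw [← hga, ← e, smul_add]
  refine Z.add_mem (hD1Z ?_) (hgD (smul_mem_dsp_conj hb'))
  rw [← hgh]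
  exact smul_mem_dsp_conj hb

/-- Odd characteristic: with a fixed point somewhere, the whole module is a plane. -/
theorem odd_top {h : H} (hh : IsM V h) (hf : (fix h : AddSubgroup V) ≠ ⊥) :
    ∃ q : ℕ, Rich H (⊤ : AddSubgroup V) ⊥ q := by
  obtain ⟨k, hk⟩ := hA.exists_conj_ne hh hf
  have hR := rich_of_pair hA hp hh (hh.conj k) (Ne.symm hk) rfl (card_dsp_conj h k)
    (Or.inr ⟨k, rfl⟩)
  have hW := plane_eq_top hA hp hR (h0 := h) ⟨hh, fun z hz => mem_fix.mp hz.1⟩
  refine ⟨Nat.card (dsp h : AddSubgroup V), ?_⟩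
  have hZ : (fix h ⊓ fix (k * h * k⁻¹) : AddSubgroup V) = ⊥ := by
    rw [AddSubgroup.eq_bot_iff_forall]
    exact fun z hz => hR.inf z (by rw [hW]; trivial) hz
  rw [hW, hZ] at hR
  exact hR

end Affine

end Cfsg.Agent.H52.Binary
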