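import Cfsg.Agent.H52.Binary.Basic

/-!
Planes of an affine binary group and the orbit count in them.
-/

set_option autoImplicit false
set_option linter.unusedSectionVars false

open Finset

namespace Cfsg.Agent.H52.Binary

variable {H V : Type*} [Group H] [AddCommGroup V] [DistribMulAction H V]

/-- `k` fixes `Z` pointwise. -/
def Fixes (Z : AddSubgroup V) (k : H) : Prop := ∀ z ∈ Z, k • z = z

theorem Fixes.one {Z : AddSubgroup V} : Fixes Z (1 : H) := fun z _ => one_smul H z

theorem Fixes.mul {Z : AddSubgroup V} {k l : H} (hk : Fixes Z k) (hl : Fixes Z l) :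
    Fixes Z (k * l) := fun z hz => by rw [mul_smul, hl z hz, hk z hz]

theorem Fixes.inv {Z : AddSubgroup V} {k : H} (hk : Fixes Z k) : Fixes Z k⁻¹ :=
  fun z hz => inv_smul_eq_iff.mpr (hk z hz).symm

/-- A maximal element fixing `Z` pointwise. -/
def Mem (Z : AddSubgroup V) (m : H) : Prop := IsM V m ∧ Fixes Z m

theorem Mem.conj {Z : AddSubgroup V} {m k : H} (hm : Mem Z m) (hk : Fixes Z k) :
    Mem Z (k * m * k⁻¹) :=
  ⟨hm.1.conj k, (hk.mul hm.2).mul hk.inv⟩

theorem card_mul_le_of_inf [Finite V] {A B W : AddSubgroup V} (hA : A ≤ W) (hB : B ≤ W)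
    (hinf : ∀ v ∈ A, v ∈ B → v = 0) : Nat.card A * Nat.card B ≤ Nat.card W := by
  rw [← Nat.card_prod]
  refine Nat.card_le_card_of_injective
    (fun x : A × B => (⟨(x.1 : V) + x.2, W.add_mem (hA x.1.2) (hB x.2.2)⟩ : W)) ?_
  rintro ⟨a, b⟩ ⟨a', b'⟩ h
  have e : (a : V) + b = a' + b' := congrArg Subtype.val h
  have h1 : (a : V) - a' = 0 := by
    refine hinf _ (A.sub_mem a.2 a'.2) ?_
    have : (a : V) - a' = b' - b := by rw [sub_eq_sub_iff_add_eq_add, e]; abel
    rw [this]; exact B.sub_mem b'.2 b.2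
  have ea : a = a' := Subtype.ext (sub_eq_zero.mp h1)
  subst ea
  exact Prod.ext rfl (Subtype.ext (add_left_cancel e))

theorem exists_add_of_card [Finite V] {A B W : AddSubgroup V} (hA : A ≤ W) (hB : B ≤ W)
    (hinf : ∀ v ∈ A, v ∈ B → v = 0) (hc : Nat.card W ≤ Nat.card A * Nat.card B) {w : V}
    (hw : w ∈ W) : ∃ a ∈ A, ∃ b ∈ B, a + b = w := by
  classical
  let f : A × B → W := fun x => ⟨(x.1 : V) + x.2, W.add_mem (hA x.1.2) (hB x.2.2)⟩
  have finj : Function.Injective f := by
    rintro ⟨a, b⟩ ⟨a', b'⟩ h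
    have e : (a : V) + b = a' + b' := congrArg Subtype.val h
    have h1 : (a : V) - a' = 0 := by
      refine hinf _ (A.sub_mem a.2 a'.2) ?_
      have : (a : V) - a' = b' - b := by rw [sub_eq_sub_iff_add_eq_add, e]; abel
      rw [this]; exact B.sub_mem b'.2 b.2
    have ea : a = a' := Subtype.ext (sub_eq_zero.mp h1)
    subst ea
    exact Prod.ext rfl (Subtype.ext (add_left_cancel e))
  have hb := finj.bijective_of_nat_card_le (by rw [Nat.card_prod]; exact hc)
  obtain ⟨⟨a, b⟩, hab⟩ := hb.2 ⟨w, hw⟩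
  exact ⟨a, a.2, b, b.2, congrArg Subtype.val hab⟩

theorem card_filter_ne_zero [Fintype V] [DecidableEq V] (T : AddSubgroup V)
    [DecidablePred (· ∈ T)] :
    (univ.filter fun v : V => v ∈ T ∧ v ≠ 0).card = Nat.card T - 1 := by
  have : (univ.filter fun v : V => v ∈ T ∧ v ≠ 0) = (univ.filter fun v : V => v ∈ T).erase 0 := by
    ext v; simp [and_comm]
  rw [this, card_erase_of_mem (by simp [T.zero_mem])]
  congr 1
  rw [Nat.card_eq_fintype_card, Fintype.card_subtype]

theorem card_family [Fintype V] [DecidableEq V] {ι : Type*} [DecidableEq ι] (s : Finset ι)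
    (f : ι → AddSubgroup V) [∀ i, DecidablePred (· ∈ f i)]
    (hd : ∀ i ∈ s, ∀ j ∈ s, i ≠ j → ∀ v ∈ f i, v ∈ f j → v = 0) :
    (s.biUnion fun i => univ.filter fun v : V => v ∈ f i ∧ v ≠ 0).card =
      ∑ i ∈ s, (Nat.card (f i) - 1) := by
  rw [card_biUnion]
  · exact sum_congr rfl fun i _ => card_filter_ne_zero (f i)
  · intro i hi j hj hij
    rw [Function.onFun, disjoint_left]
    intro v hv hv'
    simp only [mem_filter, mem_univ, true_and] at hv hv'
    exact hv.2 (hd i hi j hj hij v hv.1 hv'.1)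

variable (H) in
/-- An invariant plane `W` with complement `Z`, each member having a line as fixed points. -/
structure Plane (W Z : AddSubgroup V) (q : ℕ) : Prop where
  inf : ∀ v ∈ W, v ∈ Z → v = 0
  sup : ∀ v : V, ∃ w ∈ W, ∃ z ∈ Z, w + z = v
  cardW : Nat.card W = q * q
  stable : ∀ k : H, Fixes Z k → (dsp k : AddSubgroup V) ≤ W
  cardD : ∀ m : H, Mem Z m → Nat.card (dsp m : AddSubgroup V) = q
  cardK : ∀ m : H, Mem Z m → Nat.card ↥((fix m : AddSubgroup V) ⊓ W) = q
  disj : ∀ m m' : H, Mem Z m → Mem Z m' → m ≠ m' → ∀ w ∈ W, m • w = w → m' • w = w → w = 0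
  stab : ∀ k : H, Fixes Z k → k ≠ 1 → ∀ w ∈ W, w ≠ 0 → k • w = w → Mem Z k

namespace Plane

variable {W Z : AddSubgroup V} {q p : ℕ}

theorem smul_mem (hP : Plane H W Z q) {k : H} (hk : Fixes Z k) {w : V} (hw : w ∈ W) :
    k • w ∈ W := by
  have := W.add_mem (hP.stable k hk (dis_mem k w)) hw
  rwa [dis_apply, sub_add_cancel] at this

theorem exists_mem_W (hP : Plane H W Z q) {k : H} (hk : Fixes Z k) {x d : V}
    (hx : k • x = x + d) : ∃ w ∈ W, k • w = w + d := by
  obtain ⟨w, hw, z, hz, rfl⟩ := hP.sup x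
  refine ⟨w, hw, ?_⟩
  rw [smul_add, hk z hz] at hx
  exact add_right_cancel (b := z) (by rw [hx]; abel)

theorem decomp (hP : Plane H W Z q) [Finite V] {m m' : H} (hm : Mem Z m) (hm' : Mem Z m')
    (hne : m ≠ m') {w : V} (hw : w ∈ W) :
    ∃ a ∈ W, ∃ b ∈ W, m • a = a ∧ m' • b = b ∧ a + b = w := by
  obtain ⟨a, ha, b, hb, e⟩ := exists_add_of_card (A := fix m ⊓ W) (B := fix m' ⊓ W)
    inf_le_right inf_le_right
    (fun v h1 h2 => hP.disj m m' hm hm' hne v h1.2 (mem_fix.mp h1.1) (mem_fix.mp h2.1))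
    (by rw [hP.cardK m hm, hP.cardK m' hm', hP.cardW]) hw
  exact ⟨a, ha.2, b, hb.2, mem_fix.mp ha.1, mem_fix.mp hb.1, e⟩

theorem one_lt_q (hP : Plane H W Z q) [Finite V] (hA : Affine H V p) {h : H} (hh : Mem Z h) :
    1 < q := by
  rw [← hP.cardD h hh]
  obtain ⟨d, hd, hd0⟩ := hA.dsp_ne_bot hh.1
  have : Nontrivial ↥(dsp h : AddSubgroup V) := ⟨⟨⟨d, hd⟩, 0, fun e => hd0 (congrArg Subtype.val e)⟩⟩
  exact Finite.one_lt_card

theorem mul_not_mem (hP : Plane H W Z q) [Finite V] (hA : Affine H V p) {h m : H}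
    (hh : Mem Z h) (hm : Mem Z m) (hne : h ≠ m) : ¬ Mem Z (h * m) ∧ h * m ≠ 1 := by
  refine ⟨fun hM => ?_, fun e => ?_⟩
  · obtain ⟨d, hd, hd0⟩ := hA.dsp_ne_bot hh.1
    obtain ⟨x, hx⟩ := mem_dsp.mp hd
    obtain ⟨w, hw, hwd⟩ := hP.exists_mem_W hh.2 hx
    obtain ⟨a, _, b, _, ha, hb, e⟩ := hP.decomp hh hm hne hw
    have hbd : (h * m) • b = b + d := by
      rw [← e, smul_add, ha, add_assoc] at hwd
      rw [mul_smul, hb, add_left_cancel hwd]
    have e2 := hA.eq_of_common hM.1 hh.1 hd0 (mem_dsp.mpr ⟨b, hbd⟩) hd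
    exact hm.1.1 (mul_eq_left.mp e2)
  · rw [mul_eq_one_iff_eq_inv, hA.inv_eq hm.1] at e
    exact hne e

theorem fixfree (hP : Plane H W Z q) [Finite V] (hA : Affine H V p) {h m : H}
    (hh : Mem Z h) (hm : Mem Z m) (hne : h ≠ m) {w : V} (hw : w ∈ W)
    (e : (h * m) • w = w) : w = 0 := by
  by_contra h0
  exact (hP.mul_not_mem hA hh hm hne).1
    (hP.stab _ (hh.2.mul hm.2) (hP.mul_not_mem hA hh hm hne).2 w hw h0 e)

theorem exists_dsp_of_not_mem (hP : Plane H W Z q) [Finite V] {k : H} (hk : Fixes Z k)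
    (h1 : k ≠ 1) (hn : ¬ Mem Z k) {d : V} (hd : d ∈ W) : ∃ x ∈ W, k • x = x + d := by
  let f : W → W := fun w => ⟨k • (w : V) - w, W.sub_mem (hP.smul_mem hk w.2) w.2⟩
  have finj : Function.Injective f := by
    intro a b h
    have e : k • (a : V) - a = k • (b : V) - b := congrArg Subtype.val h
    by_contra hab
    refine hn (hP.stab k hk h1 ((a : V) - b) (W.sub_mem a.2 b.2)
      (fun c => hab (Subtype.ext (sub_eq_zero.mp c))) ?_)
    rw [smul_sub, sub_eq_sub_iff_sub_eq_sub.mp e]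
  obtain ⟨x, hx⟩ := (Finite.injective_iff_bijective.mp finj).2 ⟨d, hd⟩
  exact ⟨x, x.2, by rw [show d = k • (x : V) - x from (congrArg Subtype.val hx).symm]; abel⟩

theorem mul_mem_of_not_mem (hP : Plane H W Z q) [Finite V] (hA : Affine H V p) {h k : H}
    (hh : Mem Z h) (hk : Fixes Z k) (hn : ¬ Mem Z k) : Mem Z (h * k) := by
  by_cases h1 : k = 1
  · rw [h1, mul_one]; exact hh
  obtain ⟨d, hd, hd0⟩ := hA.dsp_ne_bot hh.1
  obtain ⟨x, hxW, hx⟩ := hP.exists_dsp_of_not_mem hk h1 hn (hP.stable h hh.2 hd)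
  have hx0 : x ≠ 0 := fun e => hd0 (by rw [e, smul_zero, zero_add] at hx; exact hx.symm)
  obtain ⟨x0, hx0'⟩ := mem_dsp.mp hd
  have hhx : h • x = x + d := by
    conv_lhs => rw [hA.isM_eq_gd hh.1 hd0 hx0']
    exact hA.gd_spec ⟨k, hx⟩
  refine hP.stab _ (hh.2.mul hk) (fun e => hn ?_) x hxW hx0 ?_
  · rw [mul_eq_one_iff_inv_eq, hA.inv_eq hh.1] at e
    rwa [← e]
  · rw [mul_smul, hx, smul_add, hhx, hA.smul_dsp hh.1 hd, add_neg_cancel_right]

section count

variable [Fintype H] [Fintype V] [DecidableEq H] [DecidableEq V]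
  [DecidablePred (Mem (H := H) Z)] [DecidablePred (Fixes (H := H) Z)]

/-- There are twice as many elements fixing `Z` as members. -/
theorem card_fixes (hP : Plane H W Z q) (hA : Affine H V p) {h : H} (hh : Mem Z h) :
    (univ.filter fun k : H => Fixes Z k).card = 2 * (univ.filter fun k : H => Mem Z k).card := by
  have hhh := hA.mul_self hh.1
  have : (univ.filter fun k : H => Fixes Z k) =
      (univ.filter fun k : H => Mem Z k) ∪ (univ.filter fun k : H => Mem Z k).image (h * ·) := by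
    ext k
    simp only [mem_filter, mem_univ, true_and, mem_union, mem_image]
    constructor
    · intro hk
      by_cases hm : Mem Z k
      · exact Or.inl hm
      · exact Or.inr ⟨h * k, hP.mul_mem_of_not_mem hA hh hk hm, by rw [← mul_assoc, hhh, one_mul]⟩
    · rintro (hm | ⟨m, hm, rfl⟩)
      · exact hm.2
      · exact hh.2.mul hm.2
  rw [this, card_union_of_disjoint, card_image_of_injective _ (mul_right_injective h), two_mul]
  rw [disjoint_left]
  intro k hk hk'
  simp only [mem_filter, mem_univ, true_and, mem_image] at hk hk'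
  obtain ⟨m, hm, rfl⟩ := hk'
  by_cases e : h = m
  · subst e; rw [hhh] at hk; exact hk.1.1 rfl
  · exact (hP.mul_not_mem hA hh hm e).1 hk

/-- The orbit count: either two members, or as many as possible. -/
theorem count (hP : Plane H W Z q) (hA : Affine H V p) {h h' : H} (hh : Mem Z h)
    (hh' : Mem Z h') (hne : h ≠ h') :
    (univ.filter fun k : H => Mem Z k).card = 2 ∨
      (univ.filter fun k : H => Mem Z k).card = q + 1 := by
  classical
  set Mf := univ.filter fun k : H => Mem Z k with hMf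
  set Yf := univ.filter fun k : H => Fixes Z k with hYf
  set Wf := univ.filter fun v : V => v ∈ W with hWf
  have hq := hP.one_lt_q hA hh
  have hcW : Wf.card = q * q := by
    rw [← hP.cardW, Nat.card_eq_fintype_card, Fintype.card_subtype]
  have hY : Yf.card = 2 * Mf.card := hP.card_fixes hA hh
  set Ck := Mf.biUnion fun m => univ.filter fun v : V => v ∈ (fix m : AddSubgroup V) ⊓ W ∧ v ≠ 0
    with hCk
  set Cd := Mf.biUnion fun m => univ.filter fun v : V => v ∈ (dsp m : AddSubgroup V) ∧ v ≠ 0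
    with hCd
  have cK : Ck.card = Mf.card * (q - 1) := by
    rw [hCk, card_family]
    · rw [sum_const_nat]
      intro m hm
      rw [hP.cardK m (mem_filter.mp hm).2]
    · intro i hi j hj hij v hv hv'
      exact hP.disj i j (mem_filter.mp hi).2 (mem_filter.mp hj).2 hij v hv.2
        (mem_fix.mp hv.1) (mem_fix.mp hv'.1)
  have cD : Cd.card = Mf.card * (q - 1) := by
    rw [hCd, card_family]
    · rw [sum_const_nat]
      intro m hm
      rw [hP.cardD m (mem_filter.mp hm).2]
    · intro i hi j hj hij v hv hv'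
      by_contra h0
      exact hij (hA.eq_of_common (mem_filter.mp hi).2.1 (mem_filter.mp hj).2.1 h0 hv hv')
  have sK : Ck ⊆ Wf.erase 0 := by
    intro v hv
    simp only [hCk, hWf, mem_biUnion, mem_filter, mem_univ, true_and, mem_erase] at hv ⊢
    obtain ⟨m, _, hv1, hv0⟩ := hv
    exact ⟨hv0, hv1.2⟩
  have sD : Cd ⊆ Wf.erase 0 := by
    intro v hv
    simp only [hCd, hWf, hMf, mem_biUnion, mem_filter, mem_univ, true_and, mem_erase] at hv ⊢
    obtain ⟨m, hm, hv1, hv0⟩ := hv
    exact ⟨hv0, hP.stable m hm.2 hv1⟩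
  have h0W : (0 : V) ∈ Wf := by simp [hWf, W.zero_mem]
  let r : V → V → Prop := fun x d => ∃ k : H, Fixes Z k ∧ k • x = x + d
  have key := sum_card_bipartiteAbove_eq_sum_card_bipartiteBelow (s := Wf) (t := Wf) r
  -- the sum over the points
  have above : ∀ x ∈ Wf, Wf.bipartiteAbove r x = Yf.image fun k => k • x - x := by
    intro x hx
    ext d
    simp only [bipartiteAbove, hWf, hYf, mem_filter, mem_univ, true_and, mem_image, r]
    constructor
    · rintro ⟨_, k, hk, e⟩
      exact ⟨k, hk, by rw [e]; abel⟩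
    · rintro ⟨k, hk, rfl⟩
      exact ⟨hP.stable k hk (dis_mem k x), k, hk, by abel⟩
  have a0 : (Wf.bipartiteAbove r 0).card = 1 := by
    rw [above 0 h0W, card_eq_one]
    refine ⟨0, ?_⟩
    ext d
    simp only [mem_image, mem_singleton, smul_zero, sub_zero]
    exact ⟨fun ⟨_, _, e⟩ => e.symm, fun e => ⟨1, by simp [hYf, Fixes.one], e.symm⟩⟩
  have stab2 : ∀ x ∈ Wf, x ≠ 0 → ∀ k ∈ Yf, ∀ l ∈ Yf, k • x = l • x →
      k = l ∨ ∃ m, Mem Z m ∧ m • x = x ∧ k = l * m := by
    intro x hx hx0 k hk l hl e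
    by_cases hkl : k = l
    · exact Or.inl hkl
    refine Or.inr ⟨l⁻¹ * k, ?_, ?_, by group⟩
    · exact hP.stab _ ((mem_filter.mp hl).2.inv.mul (mem_filter.mp hk).2)
        (fun c => hkl (inv_mul_eq_one.mp c).symm) x (mem_filter.mp hx).2 hx0
        (by rw [mul_smul, e, inv_smul_smul])
    · rw [mul_smul, e, inv_smul_smul]
  have aC : ∀ x ∈ Ck, (Wf.bipartiteAbove r x).card = Mf.card := by
    intro x hx
    have hxW : x ∈ Wf := mem_of_mem_erase (sK hx)
    simp only [hCk, hMf, mem_biUnion, mem_filter, mem_univ, true_and] at hx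
    obtain ⟨m, hm, hmx, hx0⟩ := hx
    have hmx' : m • x = x := mem_fix.mp hmx.1
    rw [above x hxW]
    have := card_eq_sum_card_fiberwise (s := Yf) (f := fun k => k • x - x)
      (t := Yf.image fun k => k • x - x) (fun k hk => mem_image_of_mem _ hk)
    rw [sum_const_nat (m := 2)] at this
    · omega
    intro d hd
    obtain ⟨k, hk, rfl⟩ := mem_image.mp hd
    rw [card_eq_two]
    refine ⟨k, k * m, fun e => hm.1.1 (mul_eq_left.mp e.symm), ?_⟩
    ext l
    simp only [mem_filter, mem_insert, mem_singleton, sub_left_inj]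
    constructor
    · rintro ⟨hl, e⟩
      rcases stab2 x hxW hx0 l hl k hk e with e' | ⟨m', hm', hm'x, e'⟩
      · exact Or.inl e'
      · by_cases hmm : m' = m
        · exact Or.inr (hmm ▸ e')
        · exact absurd (hP.disj m' m hm' hm hmm x hmx.2 hm'x hmx') hx0
    · rintro (rfl | rfl)
      · exact ⟨hk, rfl⟩
      · refine ⟨?_, by rw [mul_smul, hmx']⟩
        simp only [hYf, mem_filter, mem_univ, true_and] at hk ⊢
        exact hk.mul hm.2
  have aN : ∀ x ∈ Wf.erase 0 \ Ck, (Wf.bipartiteAbove r x).card = 2 * Mf.card := by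
    intro x hx
    obtain ⟨hx', hxC⟩ := mem_sdiff.mp hx
    obtain ⟨hx0, hxW⟩ := mem_erase.mp hx'
    rw [above x hxW, ← hY]
    refine card_image_of_injOn fun k hk l hl e => ?_
    rcases stab2 x hxW hx0 k hk l hl (sub_left_inj.mp e) with e' | ⟨m, hm, hmx, _⟩
    · exact e'
    · refine absurd ?_ hxC
      simp only [hCk, hMf, mem_biUnion, mem_filter, mem_univ, true_and]
      exact ⟨m, hm, ⟨mem_fix.mpr hmx, (mem_filter.mp hxW).2⟩, hx0⟩
  -- the sum over the displacements
  have b0 : (Wf.bipartiteBelow r 0).card = q * q := by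
    rw [← hcW]
    congr 1
    ext x
    simp only [bipartiteBelow, mem_filter, and_iff_left_iff_imp]
    exact fun _ => ⟨1, Fixes.one, by rw [one_smul, add_zero]⟩
  have bC : ∀ d ∈ Cd, (Wf.bipartiteBelow r d).card = q := by
    intro d hd
    simp only [hCd, hMf, mem_biUnion, mem_filter, mem_univ, true_and] at hd
    obtain ⟨m, hm, hmd, hd0⟩ := hd
    obtain ⟨x, hx⟩ := mem_dsp.mp hmd
    obtain ⟨x0, hx0W, hx0⟩ := hP.exists_mem_W hm.2 hx
    have hgd := hA.isM_eq_gd hm.1 hd0 hx0
    have : Wf.bipartiteBelow r d =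
        (univ.filter fun v : V => v ∈ (fix m : AddSubgroup V) ⊓ W).image (x0 + ·) := by
      ext y
      simp only [bipartiteBelow, hWf, mem_filter, mem_univ, true_and, mem_image, r]
      constructor
      · rintro ⟨hy, k, _, hky⟩
        refine ⟨y - x0, ⟨?_, W.sub_mem hy hx0W⟩, by abel⟩
        have h1 := hA.gd_spec (d := d) ⟨k, hky⟩
        rw [← hgd] at h1
        exact mem_fix.mpr (by rw [smul_sub, h1, hx0]; abel)
      · rintro ⟨v, ⟨hv1, hv2⟩, rfl⟩
        exact ⟨W.add_mem hx0W hv2, m, hm.2, by rw [smul_add, hx0, mem_fix.mp hv1]; abel⟩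
    rw [this, card_image_of_injective _ (add_right_injective x0), ← Fintype.card_subtype,
      ← Nat.card_eq_fintype_card]
    exact hP.cardK m hm
  have bN : ∀ d ∈ Wf.erase 0 \ Cd, (Wf.bipartiteBelow r d).card = 1 := by
    intro d hd
    obtain ⟨hd', hdC⟩ := mem_sdiff.mp hd
    obtain ⟨hd0, hdW⟩ := mem_erase.mp hd'
    obtain ⟨x, hxW, hx⟩ := hP.exists_dsp_of_not_mem (hh.2.mul hh'.2)
      (hP.mul_not_mem hA hh hh' hne).2 (hP.mul_not_mem hA hh hh' hne).1 (mem_filter.mp hdW).2
    rw [card_eq_one]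
    refine ⟨x, ?_⟩
    ext y
    simp only [bipartiteBelow, hWf, mem_filter, mem_univ, true_and, mem_singleton, r]
    constructor
    · rintro ⟨hy, k, hk, hky⟩
      by_contra hyx
      have hg : Fixes Z (hA.gd d) := fun z hz => mem_fix.mp (hA.fix_le_gd hky (mem_fix.mpr (hk z hz)))
      have hf := hA.sub_mem_fix_gd (d := d) ⟨k, hky⟩ ⟨_, hx⟩
      have hm := hP.stab _ hg (hA.gd_ne_one hd0 ⟨k, hky⟩) (y - x) (W.sub_mem hy hxW)
        (sub_ne_zero.mpr hyx) (mem_fix.mp hf)
      refine hdC ?_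
      simp only [hCd, hMf, mem_biUnion, mem_filter, mem_univ, true_and]
      exact ⟨_, hm, mem_dsp.mpr ⟨x, hA.gd_spec ⟨_, hx⟩⟩, hd0⟩
    · rintro rfl
      exact ⟨hxW, h * h', hh.2.mul hh'.2, hx⟩
  rw [← add_sum_erase _ _ h0W, a0, ← sum_sdiff sK, sum_const_nat aN, sum_const_nat aC,
    ← add_sum_erase _ _ h0W, b0, ← sum_sdiff sD, sum_const_nat bN, sum_const_nat bC,
    card_sdiff_of_subset sK, card_sdiff_of_subset sD, cK, cD, card_erase_of_mem h0W, hcW] at key
  have hle : Mf.card * (q - 1) ≤ q * q - 1 := by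
    have := card_le_card sK
    rwa [cK, card_erase_of_mem h0W, hcW] at this
  have h1 : 1 ≤ q * q := by nlinarith
  zify [hle, h1, (by omega : 1 ≤ q)] at key
  have : ((q : ℤ) - 1) * (((Mf.card : ℤ) - 2) * ((Mf.card : ℤ) - (q + 1))) = 0 := by
    linear_combination -key
  rcases mul_eq_zero.mp this with h2 | h2
  · omega
  rcases mul_eq_zero.mp h2 with h3 | h3
  · left; omega
  · right; omega

/-- When the number of members is maximal their fixed lines and their moved lines cover `W`. -/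
theorem cover (hP : Plane H W Z q) (hA : Affine H V p)
    (hN : (univ.filter fun k : H => Mem Z k).card = q + 1) {w : V} (hw : w ∈ W) (h0 : w ≠ 0) :
    (∃ m : H, Mem Z m ∧ w ∈ (dsp m : AddSubgroup V)) ∧ ∃ m : H, Mem Z m ∧ m • w = w := by
  classical
  set Mf := univ.filter fun k : H => Mem Z k with hMf
  set Wf := univ.filter fun v : V => v ∈ W with hWf
  have hcW : Wf.card = q * q := by
    rw [← hP.cardW, Nat.card_eq_fintype_card, Fintype.card_subtype]
  have h0W : (0 : V) ∈ Wf := by simp [hWf, W.zero_mem]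
  have hnum : Mf.card * (q - 1) = (Wf.erase 0).card := by
    rw [card_erase_of_mem h0W, hcW, hN, show q * q = q ^ 2 by ring]
    simpa using (Nat.sq_sub_sq q 1).symm
  have hwf : w ∈ Wf.erase 0 := by simp [hWf, hw, h0]
  constructor
  · have e : (Mf.biUnion fun m => univ.filter fun v : V => v ∈ (dsp m : AddSubgroup V) ∧ v ≠ 0) =
        Wf.erase 0 := by
      refine eq_of_subset_of_card_le ?_ ?_
      · intro v hv
        simp only [hWf, hMf, mem_biUnion, mem_filter, mem_univ, true_and, mem_erase] at hv ⊢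
        obtain ⟨m, hm, hv1, hv0⟩ := hv
        exact ⟨hv0, hP.stable m hm.2 hv1⟩
      · rw [card_family, sum_const_nat (m := q - 1), hnum]
        · intro m hm
          rw [hP.cardD m (mem_filter.mp hm).2]
        · intro i hi j hj hij v hv hv'
          by_contra c
          exact hij (hA.eq_of_common (mem_filter.mp hi).2.1 (mem_filter.mp hj).2.1 c hv hv')
    rw [← e] at hwf
    simp only [hMf, mem_biUnion, mem_filter, mem_univ, true_and] at hwf
    obtain ⟨m, hm, hv, _⟩ := hwf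
    exact ⟨m, hm, hv⟩
  · have e : (Mf.biUnion fun m => univ.filter fun v : V =>
        v ∈ (fix m : AddSubgroup V) ⊓ W ∧ v ≠ 0) = Wf.erase 0 := by
      refine eq_of_subset_of_card_le ?_ ?_
      · intro v hv
        simp only [hWf, mem_biUnion, mem_filter, mem_univ, true_and, mem_erase] at hv ⊢
        obtain ⟨m, _, hv1, hv0⟩ := hv
        exact ⟨hv0, hv1.2⟩
      · rw [card_family, sum_const_nat (m := q - 1), hnum]
        · intro m hm
          rw [hP.cardK m (mem_filter.mp hm).2]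
        · intro i hi j hj hij v hv hv'
          exact hP.disj i j (mem_filter.mp hi).2 (mem_filter.mp hj).2 hij v hv.2
            (mem_fix.mp hv.1) (mem_fix.mp hv'.1)
    rw [← e] at hwf
    simp only [hMf, mem_biUnion, mem_filter, mem_univ, true_and] at hwf
    obtain ⟨m, hm, hv, _⟩ := hwf
    exact ⟨m, hm, mem_fix.mp hv.1⟩

end count

end Plane

end Cfsg.Agent.H52.Binary
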